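import Groth.Agent.H19.Bass.Homological
import Groth.Agent.Lib.Regular.Quotient

/-!
# `Ext` out of the residue field from free `Ext` out of a regular quotient
-/

set_option autoImplicit false
set_option linter.style.haveILetI false

universe u

open CategoryTheory IsLocalRing
open Groth.Agent.Lib.LCFin Groth.Agent.Lib.LocalCoh

namespace Groth.Agent.H19.Bass.RegChange

variable {A : Type u} [CommRing A] [IsLocalRing A] {V : Type u} [AddCommGroup V] [Module A V]

/-- `Ext` out of a multiplication. -/
theorem mk₀_smul_id_comp {B : Type u} [AddCommGroup B] [Module A B] (a : A) (ι : B →ₗ[A] B)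
    (hι : ι = a • LinearMap.id) (j : ℕ)
    (w : Abelian.Ext.{u} (ModuleCat.of A B) (ModuleCat.of A V) j) :
    (Abelian.Ext.mk₀ (ModuleCat.ofHom ι)).comp w (zero_add j) = a • w := by
  subst hι
  rw [show ModuleCat.ofHom (a • LinearMap.id : B →ₗ[A] B) = a • 𝟙 (ModuleCat.of A B) from rfl,
    Abelian.Ext.mk₀_smul, Abelian.Ext.smul_comp, Abelian.Ext.mk₀_id_comp]

/-- If `Ext(B, V)` is free over a regular quotient `B` of dimension `d`, then `Ext(k, V)` is its
reduction, moved up by `d`. -/
theorem main : ∀ (d : ℕ) (B : Type u) [CommRing B] [Algebra A B] [IsRegularLocalRing B],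
    ringKrullDim B = d → Function.Surjective (algebraMap A B) →
    ∀ Λ : ℕ → Type u, (∀ j, Nonempty (Abelian.Ext.{u} (ModuleCat.of A B) (ModuleCat.of A V) j ≃ₗ[A]
      (Λ j →₀ B))) →
    (∀ i < d, Subsingleton (Abelian.Ext.{u} (ModuleCat.of A (ResidueField A)) (ModuleCat.of A V) i)) ∧
      ∀ j, Module.length A (Abelian.Ext.{u} (ModuleCat.of A (ResidueField A)) (ModuleCat.of A V) (j + d)) =
        Cardinal.toENat (Cardinal.mk (Λ j)) := by
  intro d
  induction d with
  | zero =>
    intro B _ _ _ hdim hsurj Λ hΛ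
    refine ⟨fun i hi ↦ absurd hi (Nat.not_lt_zero i), fun j ↦ ?_⟩
    obtain ⟨d', hd', hspan⟩ := Lib.Regular.Quotient.exists_dim_eq (R := B)
    rw [hdim] at hd'
    have hd0 : d' = 0 := by exact_mod_cast hd'.symm
    have hm : maximalIdeal B = ⊥ :=
      (Submodule.spanFinrank_eq_zero_iff_eq_bot (Ideal.fg_of_isNoetherianRing _)).1 (hspan.trans hd0)
    have hker : LinearMap.ker (Algebra.linearMap A B) = maximalIdeal A := by
      have : IsLocalHom (algebraMap A B) := IsLocalHom.of_surjective _ hsurj
      ext a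
      rw [LinearMap.mem_ker, Algebra.linearMap_apply, IsLocalRing.mem_maximalIdeal, mem_nonunits_iff,
        ← isUnit_map_iff (algebraMap A B), ← mem_nonunits_iff, ← IsLocalRing.mem_maximalIdeal, hm,
        Ideal.mem_bot]
    let eB : B ≃ₗ[A] ResidueField A := (LinearMap.quotKerEquivOfSurjective _ hsurj).symm.trans
      (Submodule.quotEquivOfEq _ _ hker)
    obtain ⟨e⟩ := hΛ j
    let E : Abelian.Ext.{u} (ModuleCat.of A (ResidueField A)) (ModuleCat.of A V) j ≃ₗ[A]
        Abelian.Ext.{u} (ModuleCat.of A B) (ModuleCat.of A V) j :=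
      { toFun := fun x ↦ (Abelian.Ext.mk₀ eB.toModuleIso.hom).comp x (zero_add j)
        invFun := fun x ↦ (Abelian.Ext.mk₀ eB.toModuleIso.inv).comp x (zero_add j)
        left_inv := fun x ↦ by
          simp only [Abelian.Ext.mk₀_comp_mk₀_assoc, Iso.inv_hom_id, Abelian.Ext.mk₀_id_comp]
        right_inv := fun x ↦ by
          simp only [Abelian.Ext.mk₀_comp_mk₀_assoc, Iso.hom_inv_id, Abelian.Ext.mk₀_id_comp]
        map_add' := fun _ _ ↦ Abelian.Ext.comp_add ..
        map_smul' := fun _ _ ↦ Abelian.Ext.comp_smul .. }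
    rw [add_zero, ((E.trans e).trans (Finsupp.mapRange.linearEquiv eB)).length_eq,
      Module.length_eq_of_surjective (R := ResidueField A) IsLocalRing.residue_surjective,
      Module.length_eq_rank, rank_finsupp_self']
  | succ d ih =>
    intro B _ _ _ hdim hsurj Λ hΛ
    have hne : ¬ maximalIdeal B ≤ maximalIdeal B ^ 2 := fun h ↦ by
      have hm : maximalIdeal B = ⊥ := by
        refine Submodule.eq_bot_of_le_smul_of_le_jacobson_bot (maximalIdeal B) (maximalIdeal B)
          (Ideal.fg_of_isNoetherianRing _) ?_ (IsLocalRing.maximalIdeal_le_jacobson _)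
        rw [smul_eq_mul, ← sq]
        exact h
      have := ringKrullDim_eq_zero_of_isField (IsLocalRing.isField_iff_maximalIdeal_eq.2 hm)
      rw [hdim] at this
      have h0 : d + 1 = 0 := by exact_mod_cast this
      omega
    obtain ⟨x, hx, hx2⟩ := SetLike.not_le_iff_exists.1 hne
    obtain ⟨hreg, hdim', -⟩ := Lib.Regular.Quotient.quotient_singleton hx hx2
    have : IsDomain B := Lib.Regular.Quotient.isDomain B
    have hx0 : x ≠ 0 := fun h ↦ hx2 (h ▸ zero_mem _)
    obtain ⟨a, ha⟩ := hsurj x
    let B' := B ⧸ Ideal.span {x}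
    have hdimB' : ringKrullDim B' = d := by
      rw [hdim, Nat.cast_succ] at hdim'
      exact (ENat.WithBot.add_natCast_cancel (c := 1)).1 (by exact_mod_cast hdim')
    let μ : B →ₗ[A] B := a • LinearMap.id
    let π : B →ₗ[A] B' := (Ideal.Quotient.mkₐ A (Ideal.span {x})).toLinearMap
    have hμ : ∀ b, μ b = x * b := fun b ↦ by
      simp [μ, Algebra.smul_def, ha]
    have hμinj : Function.Injective μ := fun b c h ↦ by
      rw [hμ, hμ] at h
      exact mul_left_cancel₀ hx0 h
    have hπ : Function.Surjective π := Ideal.Quotient.mk_surjective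
    have hex : Function.Exact μ π := fun b ↦ by
      change Ideal.Quotient.mk _ b = 0 ↔ _
      rw [Ideal.Quotient.eq_zero_iff_mem, Ideal.mem_span_singleton']
      exact ⟨fun ⟨c, hc⟩ ↦ ⟨c, by rw [hμ, mul_comm, hc]⟩, fun ⟨c, hc⟩ ↦ ⟨c, by rw [← hc, hμ, mul_comm]⟩⟩
    have hreg' : ∀ j (w : Abelian.Ext.{u} (ModuleCat.of A B) (ModuleCat.of A V) j),
        a • w = 0 → w = 0 := fun j w hw ↦ by
      obtain ⟨e⟩ := hΛ j
      refine e.map_eq_zero_iff.1 (Finsupp.ext fun l ↦ ?_)
      have h := DFunLike.congr_fun (congrArg e hw) l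
      rw [map_smul, map_zero, Finsupp.smul_apply, Algebra.smul_def, ha, Finsupp.zero_apply] at h
      exact (mul_eq_zero.1 h).resolve_left hx0
    have hkill : ∀ (j : ℕ) (y : Abelian.Ext.{u} (ModuleCat.of A B') (ModuleCat.of A V) j),
        (Abelian.Ext.mk₀ (ModuleCat.ofHom π)).comp y (zero_add j) = 0 := fun j y ↦ by
      refine hreg' j _ ?_
      rw [← mk₀_smul_id_comp a μ rfl, Abelian.Ext.mk₀_comp_mk₀_assoc,
        show ModuleCat.ofHom μ ≫ ModuleCat.ofHom π = 0 from
          ModuleCat.hom_ext (LinearMap.ext fun b ↦ hex.apply_apply_eq_zero b),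
        Abelian.Ext.mk₀_zero, Abelian.Ext.zero_comp]
    let Λ' : ℕ → Type u := fun j ↦ match j with
      | 0 => PEmpty.{u + 1}
      | j + 1 => Λ j
    have hΛ' : ∀ j : ℕ, Nonempty
        (LinearEquiv (RingHom.id A) (Abelian.Ext.{u} (ModuleCat.of A B') (ModuleCat.of A V) j)
          (Λ' j →₀ B')) := by
      rintro (_ | j)
      · have : Subsingleton (Abelian.Ext.{u} (ModuleCat.of A B') (ModuleCat.of A V) 0) := by
          refine subsingleton_of_forall_eq 0 fun y ↦ (ExtLoc.homEquiv B' V).injective ?_
          refine LinearMap.ext fun c ↦ ?_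
          obtain ⟨b, rfl⟩ := hπ c
          have h := ExtLoc.homEquiv_precomp (ι := π) V y
          rw [hkill 0 y, map_zero] at h
          rw [map_zero]
          exact (LinearMap.congr_fun h b).symm
        have : IsEmpty (Λ' 0) := inferInstanceAs (IsEmpty PEmpty.{u + 1})
        exact ⟨LinearEquiv.ofSubsingleton _ _⟩
      · obtain ⟨e⟩ := hΛ j
        let δ := ExtLoc.extConn hμinj hπ hex V j
        have hδ : Function.Surjective δ := fun y ↦
          Abelian.Ext.contravariant_sequence_exact₃ (Seq.ses_shortExact hμinj hπ hex) _ y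
            (hkill _ y) (add_comm 1 j)
        let Φ : (Λ j →₀ B) →ₗ[A] Abelian.Ext.{u} (ModuleCat.of A B') (ModuleCat.of A V) (j + 1) :=
          δ ∘ₗ e.symm.toLinearMap
        let Ψ : (Λ j →₀ B) →ₗ[A] (Λ j →₀ B') := Finsupp.mapRange.linearMap π
        have hΨ : Function.Surjective Ψ := Finsupp.mapRange_surjective π (map_zero π) hπ
        have hker : LinearMap.ker Φ = LinearMap.ker Ψ := by
          ext v
          rw [LinearMap.mem_ker, LinearMap.mem_ker]
          constructor
          · intro h
            obtain ⟨g, hg⟩ := (ExtLoc.extConn_eq_zero_iff hμinj hπ hex V j _).1 h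
            rw [mk₀_smul_id_comp a μ rfl] at hg
            have hv : v = a • e g := by
              rw [← map_smul, hg]
              exact (e.apply_symm_apply v).symm
            ext l
            rw [hv]
            change π (a • e g l) = 0
            have : a • e g l = μ (e g l) := rfl
            rw [this, hex.apply_apply_eq_zero]
          · intro h
            classical
            have hdiv : ∀ b : B, π b = 0 → ∃ c, μ c = b := fun b hb ↦ (hex b).1 hb
            let dv : B → B := fun b ↦ if hb : π b = 0 then (hdiv b hb).choose else 0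
            have hdv : ∀ b, π b = 0 → μ (dv b) = b := fun b hb ↦ by
              simp only [dv, dif_pos hb]
              exact (hdiv b hb).choose_spec
            have hdv0 : dv 0 = 0 := hμinj ((hdv 0 (map_zero π)).trans (map_zero μ).symm)
            refine (ExtLoc.extConn_eq_zero_iff hμinj hπ hex V j _).2
              ⟨e.symm (v.mapRange dv hdv0), ?_⟩
            rw [mk₀_smul_id_comp a μ rfl, ← map_smul]
            refine congrArg e.symm (Finsupp.ext fun l ↦ ?_)
            have hl : π (v l) = 0 := DFunLike.congr_fun h l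
            exact (show a • dv (v l) = μ (dv (v l)) from rfl).trans (hdv _ hl)
        exact ⟨(LinearMap.quotKerEquivOfSurjective Φ (hδ.comp e.symm.surjective)).symm.trans
          ((Submodule.quotEquivOfEq _ _ hker).trans (LinearMap.quotKerEquivOfSurjective Ψ hΨ))⟩
    obtain ⟨hlow, hhigh⟩ := ih B' hdimB' (hπ.comp hsurj) Λ' hΛ'
    refine ⟨fun i hi ↦ ?_, fun j ↦ ?_⟩
    · rcases Nat.lt_succ_iff_lt_or_eq.1 hi with hi | rfl
      · exact hlow i hi
      · have h0 := hhigh 0
        rw [zero_add, show Cardinal.mk (Λ' 0) = 0 from Cardinal.mk_pempty, map_zero,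
          Module.length_eq_zero_iff] at h0
        exact h0
    · have h := hhigh (j + 1)
      rw [show j + (d + 1) = j + 1 + d by omega]
      exact h

end Groth.Agent.H19.Bass.RegChange
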