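import Groth.Agent.H19.Bass.GradedField
import Groth.Agent.H19.Bass.RegChange
import Groth.Agent.Lib.Depth.Ext
import Groth.Prelude.Def_CAlg
import Groth.Prelude.Def_GrLC2

/-!
# Bass numbers at a prime and at its homogeneous core
-/

set_option autoImplicit false
set_option linter.unusedSectionVars false
set_option linter.style.haveILetI false

universe u

open CategoryTheory
open Groth.Agent.Lib.Graded Groth.Agent.Lib.Graded.Basic
open Groth.Agent.H19.Bass.Rel

namespace Groth.Agent.H19.Bass.Core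

variable {R : Type u} [CommRing R] [IsNoetherianRing R] {ι : Type} [AddCommGroup ι] [DecidableEq ι]
  [Module.Free ℤ ι] [Module.Finite ℤ ι] {𝒜 : ι → AddSubgroup R} [GradedRing 𝒜]
  {M : Type u} [AddCommGroup M] [Module R M] (ℳ : ι → AddSubgroup M) [DirectSum.Decomposition ℳ]
  [SetLike.GradedSMul 𝒜 ℳ]
include ℳ

/-- `Ext(R_p / q R_p, M_p)` is free, of rank independent of the prime `p` over the core `q`. -/
theorem exists_ext_free (q : HomogeneousIdeal 𝒜) [q.toIdeal.IsPrime] : ∃ Λ : ℕ → Type u,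
    ∀ (p : Ideal R) [p.IsPrime], q.toIdeal ≤ p →
      (∀ (d : ι), ∀ a ∈ 𝒜 d, a ∉ q.toIdeal → a ∉ p) → ∀ j,
        Nonempty (Abelian.Ext.{u}
          (ModuleCat.of (Localization.AtPrime p) (Localization.AtPrime p ⧸ ext q.toIdeal p))
          (ModuleCat.of (Localization.AtPrime p) (LocalizedModule p.primeCompl M)) j
            ≃ₗ[Localization.AtPrime p] (Λ j →₀ (Localization.AtPrime p ⧸ ext q.toIdeal p))) := by
  obtain ⟨E, hmin0, hmin⟩ := Rel.exists_minimal (𝒜 := 𝒜) ℳ
  choose S hSh hS using fun j ↦ Rel.exists_basis (X := (E.X j).carrier) (𝒳 := (E.X j).gr) q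
  refine ⟨fun j ↦ S j, fun p _ hqp hcore j ↦ ?_⟩
  let W := p.primeCompl
  let B := Localization.AtPrime p ⧸ ext q.toIdeal p
  let d' : ∀ n, (E.X n).carrier →ₗ[R] LinearMap.ker (E.d (n + 1)) := fun n ↦
    (E.d n).codRestrict _ fun x ↦ (E.exact_succ n).ge ⟨x, rfl⟩
  have hd' : ∀ n, Function.Surjective (d' n) := fun n y ↦ by
    obtain ⟨x, hx⟩ := (E.exact_succ n).le y.2
    exact ⟨x, Subtype.ext hx⟩
  have hker : ∀ n, LinearMap.ker (E.d n) = LinearMap.ker (d' n) := fun n ↦
    (LinearMap.ker_codRestrict _ _ _).symm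
  have hess : ∀ n, ∀ Q : Submodule R (E.X n).carrier, Q.IsHomogeneous (E.X n).gr → Q ≠ ⊥ →
      Q ⊓ LinearMap.ker (E.d n) ≠ ⊥ := fun n ↦ by
    cases n with
    | zero => rw [E.exact_zero]; exact hmin0
    | succ n => rw [E.exact_succ n]; exact hmin n
  have hExt : ∀ n i, Subsingleton (Abelian.Ext.{u} (ModuleCat.of (Localization.AtPrime p) B)
      (ModuleCat.of (Localization.AtPrime p) (LocalizedModule W (E.X n).carrier)) (i + 1)) := by
    intro n i
    refine Rel.ext_subsingleton_localized q.toIdeal p _ _ ?_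
    letI := HullPrime.quotDecomp q
    haveI := HullPrime.quotGSMul q
    exact ExtStarInj.ext_subsingleton (E.X n) (E.starInj n) i
      (GrLC.GMod.of 𝒜 (R ⧸ q.toIdeal) (GrLC.quotGr 𝒜 q))
      (inferInstanceAs (Module.Finite R (R ⧸ q.toIdeal)))
  obtain ⟨eq⟩ := Homological.nonempty_equiv (A := Localization.AtPrime p) (k := B)
    (C := fun n ↦ LocalizedModule W (LinearMap.ker (E.d n)))
    (X := fun n ↦ LocalizedModule W (E.X n).carrier)
    (fun n ↦ LocalizedModule.map W (LinearMap.ker (E.d n)).subtype)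
    (fun n ↦ LocalizedModule.map W (d' n))
    (fun n ↦ LocalizedModule.map_injective W _ (Submodule.injective_subtype _))
    (fun n ↦ LocalizedModule.map_surjective W _ (hd' n))
    (fun n ↦ LocalizedModule.map_exact W _ _ (by
      rw [LinearMap.exact_iff, ← hker n, Submodule.range_subtype]))
    hExt (fun n φ ↦ LinearMap.ext fun c ↦ Rel.map_eq_zero_of_ess q hcore (d' n) _
      (hker n).le (isHomogeneous_ker (E.d_grHom n)) (hess n) _
      fun a ha ↦ Rel.smul_hom_eq_zero φ c ha) j 0
  have e0 : M ≃ₗ[R] LinearMap.ker (E.d 0) :=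
    (LinearEquiv.ofInjective E.ε E.ε_injective).trans (LinearEquiv.ofEq _ _ E.exact_zero.symm)
  have eM : LocalizedModule W M ≃ₗ[Localization.AtPrime p] LocalizedModule W (LinearMap.ker (E.d 0)) :=
    LinearEquiv.ofBijective (LocalizedModule.map W e0.toLinearMap)
      ⟨LocalizedModule.map_injective W _ e0.injective, LocalizedModule.map_surjective W _ e0.surjective⟩
  let eE : Abelian.Ext.{u} (ModuleCat.of (Localization.AtPrime p) B)
      (ModuleCat.of (Localization.AtPrime p) (LocalizedModule W M)) j ≃ₗ[Localization.AtPrime p]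
      Abelian.Ext.{u} (ModuleCat.of (Localization.AtPrime p) B)
        (ModuleCat.of (Localization.AtPrime p) (LocalizedModule W (LinearMap.ker (E.d 0)))) j :=
    { toFun := fun x ↦ x.comp (Abelian.Ext.mk₀ eM.toModuleIso.hom) (add_zero j)
      invFun := fun x ↦ x.comp (Abelian.Ext.mk₀ eM.toModuleIso.inv) (add_zero j)
      left_inv := fun x ↦ by
        simp only [Abelian.Ext.comp_assoc_of_third_deg_zero, Abelian.Ext.mk₀_comp_mk₀,
          Iso.hom_inv_id, Abelian.Ext.comp_mk₀_id]
      right_inv := fun x ↦ by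
        simp only [Abelian.Ext.comp_assoc_of_third_deg_zero, Abelian.Ext.mk₀_comp_mk₀,
          Iso.inv_hom_id, Abelian.Ext.comp_mk₀_id]
      map_add' := fun _ _ ↦ Abelian.Ext.add_comp ..
      map_smul' := fun _ _ ↦ Abelian.Ext.smul_comp .. }
  rw [Nat.zero_add j] at eq
  obtain ⟨eS⟩ := hS j p hqp hcore
  exact ⟨eE.trans (eq.trans eS)⟩

/-- Bass numbers at a prime are those at its homogeneous core, moved up by the height. -/
theorem bassNum_eq (p : Ideal R) [p.IsPrime] [(Ideal.homogeneousCore 𝒜 p).toIdeal.IsPrime] (d : ℕ)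
    (hd : (p.map (Ideal.Quotient.mk (Ideal.homogeneousCore 𝒜 p).toIdeal)).height = d) :
    (∀ i, i < d → GrLC.bassNum p M i = 0) ∧
      ∀ j, GrLC.bassNum p M (j + d) = GrLC.bassNum (Ideal.homogeneousCore 𝒜 p).toIdeal M j := by
  let q := Ideal.homogeneousCore 𝒜 p
  obtain ⟨Λ, hΛ⟩ := exists_ext_free ℳ q
  have hqp : q.toIdeal ≤ p := Ideal.toIdeal_homogeneousCore_le 𝒜 p
  have hcore : ∀ (g : ι), ∀ a ∈ 𝒜 g, a ∉ q.toIdeal → a ∉ p := fun g a ha haq hap ↦
    haq (Ideal.mem_homogeneousCore_of_homogeneous_of_mem ⟨g, ha⟩ hap)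
  -- the core
  have hq : ∀ j, GrLC.bassNum q.toIdeal M j = Cardinal.toENat (Cardinal.mk (Λ j)) := by
    intro j
    obtain ⟨e⟩ := hΛ q.toIdeal le_rfl (fun _ _ _ h ↦ h) j
    let eB : (Localization.AtPrime q.toIdeal ⧸ ext q.toIdeal q.toIdeal) ≃ₗ[Localization.AtPrime q.toIdeal]
        IsLocalRing.ResidueField (Localization.AtPrime q.toIdeal) :=
      Submodule.quotEquivOfEq _ _ Localization.AtPrime.map_eq_maximalIdeal
    let E : Abelian.Ext.{u} (ModuleCat.of (Localization.AtPrime q.toIdeal)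
          (IsLocalRing.ResidueField (Localization.AtPrime q.toIdeal)))
          (ModuleCat.of (Localization.AtPrime q.toIdeal) (LocalizedModule q.toIdeal.primeCompl M)) j
        ≃ₗ[Localization.AtPrime q.toIdeal] Abelian.Ext.{u} (ModuleCat.of (Localization.AtPrime q.toIdeal)
          (Localization.AtPrime q.toIdeal ⧸ ext q.toIdeal q.toIdeal))
          (ModuleCat.of (Localization.AtPrime q.toIdeal) (LocalizedModule q.toIdeal.primeCompl M)) j :=
      { toFun := fun x ↦ (Abelian.Ext.mk₀ eB.toModuleIso.hom).comp x (zero_add j)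
        invFun := fun x ↦ (Abelian.Ext.mk₀ eB.toModuleIso.inv).comp x (zero_add j)
        left_inv := fun x ↦ by
          simp only [Abelian.Ext.mk₀_comp_mk₀_assoc, Iso.inv_hom_id, Abelian.Ext.mk₀_id_comp]
        right_inv := fun x ↦ by
          simp only [Abelian.Ext.mk₀_comp_mk₀_assoc, Iso.hom_inv_id, Abelian.Ext.mk₀_id_comp]
        map_add' := fun _ _ ↦ Abelian.Ext.comp_add ..
        map_smul' := fun _ _ ↦ Abelian.Ext.comp_smul .. }
    exact ((E.trans e).trans (Finsupp.mapRange.linearEquiv eB)).length_eq.trans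
      (by rw [Module.length_eq_of_surjective
        (R := IsLocalRing.ResidueField (Localization.AtPrime q.toIdeal))
        IsLocalRing.residue_surjective, Module.length_eq_rank, rank_finsupp_self'])
  have := GradedField.isRegularLocalRing hqp hcore
  obtain ⟨hlow, hhigh⟩ := RegChange.main (V := LocalizedModule p.primeCompl M) d
    (Localization.AtPrime p ⧸ ext q.toIdeal p) (GradedField.ringKrullDim_eq hqp hcore hd)
    Ideal.Quotient.mk_surjective Λ (hΛ p hqp hcore)
  exact ⟨fun i hi ↦ Module.length_eq_zero_iff.2 (hlow i hi), fun j ↦ (hhigh j).trans (hq j).symm⟩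

/-- Depth at a prime is depth at its homogeneous core plus the height. -/
theorem depth_eq [Module.Finite R M] (p : Ideal R) [p.IsPrime]
    [(Ideal.homogeneousCore 𝒜 p).toIdeal.IsPrime] (d : ℕ)
    (hd : (p.map (Ideal.Quotient.mk (Ideal.homogeneousCore 𝒜 p).toIdeal)).height = d) :
    LocCoh.depth (Localization.AtPrime p) (LocalizedModule p.primeCompl M) =
      LocCoh.depth (Localization.AtPrime (Ideal.homogeneousCore 𝒜 p).toIdeal)
        (LocalizedModule (Ideal.homogeneousCore 𝒜 p).toIdeal.primeCompl M) + d := by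
  obtain ⟨hlow, hhigh⟩ := bassNum_eq ℳ p d hd
  have key : ∀ (P : Ideal R) [P.IsPrime] (n : ℕ),
      (n : ℕ∞) ≤ LocCoh.depth (Localization.AtPrime P) (LocalizedModule P.primeCompl M) ↔
        ∀ i < n, GrLC.bassNum P M i = 0 := fun P _ n ↦
    (Lib.Depth.Ext.le_depth_iff_ext _ n).trans
      (forall₂_congr fun i _ ↦ Module.length_eq_zero_iff.symm)
  refine Lib.Depth.Basic.eq_of_forall_le_iff fun n ↦ ?_
  rw [key]
  have h1 : (∀ i < n, GrLC.bassNum p M i = 0) ↔
      ∀ i < n - d, GrLC.bassNum (Ideal.homogeneousCore 𝒜 p).toIdeal M i = 0 := by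
    refine ⟨fun h i hi ↦ (hhigh i).symm.trans (h _ (by omega)), fun h i hi ↦ ?_⟩
    rcases lt_or_ge i d with hid | hid
    · exact hlow i hid
    · obtain ⟨j, rfl⟩ := Nat.exists_eq_add_of_le' hid
      exact (hhigh j).trans (h j (by omega))
  rw [h1, ← key]
  generalize LocCoh.depth (Localization.AtPrime (Ideal.homogeneousCore 𝒜 p).toIdeal)
    (LocalizedModule (Ideal.homogeneousCore 𝒜 p).toIdeal.primeCompl M) = a
  induction a using ENat.recTopCoe with
  | top => simp
  | coe a =>
    rw [← Nat.cast_add, Nat.cast_le, Nat.cast_le]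
    omega

end Groth.Agent.H19.Bass.Core
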