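import Groth.Agent.H19.Bass.Main
import Groth.Agent.Lib.Graded.Res

/-!
# The part killed by a graded prime, localized at a prime containing it
-/

set_option autoImplicit false
set_option linter.unusedSectionVars false
set_option linter.style.haveILetI false

universe u

open CategoryTheory
open Groth.Agent.Lib.Graded Groth.Agent.Lib.Graded.Basic Groth.Agent.Lib.Graded.StarInj

namespace Groth.Agent.H19.Bass.Rel

variable {R : Type u} [CommRing R] (I p : Ideal R) [p.IsPrime]

/-- The ideal `I` in the local ring at `p`. -/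
abbrev ext : Ideal (Localization.AtPrime p) := I.map (algebraMap R (Localization.AtPrime p))

/-- Extension to the local ring, membership. -/
theorem algebraMap_mem {a : R} (ha : a ∈ I) : algebraMap R (Localization.AtPrime p) a ∈ ext I p :=
  Ideal.mem_map_of_mem _ ha

/-- The quotient of the local ring is the localization of the quotient. -/
theorem nonempty_quotient_equiv :
    Nonempty (LocalizedModule p.primeCompl (R ⧸ I) ≃ₗ[Localization.AtPrime p]
      (Localization.AtPrime p ⧸ ext I p)) := by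
  let L := LinearMap.toSpanSingleton (Localization.AtPrime p) _
    (LocalizedModule.mk (Ideal.Quotient.mk I 1) (1 : p.primeCompl))
  have hkill : ∀ a ∈ I, algebraMap R (Localization.AtPrime p) a ∈ LinearMap.ker L := fun a ha ↦ by
    rw [LinearMap.mem_ker, LinearMap.toSpanSingleton_apply, algebraMap_smul,
      LocalizedModule.smul'_mk, show a • Ideal.Quotient.mk I 1 = 0 from
        Ideal.Quotient.eq_zero_iff_mem.2 (I.mul_mem_right _ ha), LocalizedModule.zero_mk]
  have hsurj : Function.Surjective L := fun z ↦ by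
    induction z using LocalizedModule.induction_on with
    | h x s =>
      obtain ⟨r, rfl⟩ := Ideal.Quotient.mk_surjective x
      refine ⟨Localization.mk r s, ?_⟩
      rw [LinearMap.toSpanSingleton_apply, LocalizedModule.mk_smul_mk, mul_one,
        show r • Ideal.Quotient.mk I 1 = Ideal.Quotient.mk I r from
          congrArg (Ideal.Quotient.mk I) (mul_one r)]
  have hker : LinearMap.ker L = ext I p := by
    refine le_antisymm (fun a ha ↦ ?_)
      (Ideal.span_le.2 (by rintro _ ⟨a, ha, rfl⟩; exact hkill a ha))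
    obtain ⟨r, s, rfl⟩ := IsLocalization.exists_mk'_eq p.primeCompl a
    rw [← Localization.mk_eq_mk', LinearMap.mem_ker, LinearMap.toSpanSingleton_apply,
      LocalizedModule.mk_smul_mk, mul_one, Local.mk_eq_zero] at ha
    obtain ⟨u, hu⟩ := ha
    have hu' : (u : R) * r ∈ I := Ideal.Quotient.eq_zero_iff_mem.1
      ((congrArg (Ideal.Quotient.mk I) (by rw [mul_one]) :
        Ideal.Quotient.mk I ((u : R) * r) = Ideal.Quotient.mk I ((u : R) * (r * 1))).trans hu)
    refine (Ideal.unit_mul_mem_iff_mem _ (y := algebraMap R _ (u : R))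
      (IsLocalization.map_units _ u)).1 ?_
    rw [IsLocalization.mul_mk'_eq_mk'_of_mul, IsLocalization.mk'_eq_mul_mk'_one]
    exact Ideal.mul_mem_right _ _ (algebraMap_mem I p hu')
  exact ⟨(L.quotKerEquivOfSurjective hsurj).symm.trans (Submodule.quotEquivOfEq _ _ hker)⟩

/-- Vanishing of `Ext` out of a quotient localizes. -/
theorem ext_subsingleton_localized [IsNoetherianRing R] (N : Type u) [AddCommGroup N] [Module R N]
    (i : ℕ) (h : Subsingleton (Abelian.Ext.{u} (ModuleCat.of R (R ⧸ I)) (ModuleCat.of R N) i)) :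
    Subsingleton (Abelian.Ext.{u}
      (ModuleCat.of (Localization.AtPrime p) (Localization.AtPrime p ⧸ ext I p))
      (ModuleCat.of (Localization.AtPrime p) (LocalizedModule p.primeCompl N)) i) := by
  obtain ⟨e⟩ := Lib.LCFin.ExtLoc.nonempty_equiv p.primeCompl N i (R ⧸ I)
  have hz : ∀ y : Abelian.Ext.{u}
      (ModuleCat.of (Localization.AtPrime p) (LocalizedModule p.primeCompl (R ⧸ I)))
      (ModuleCat.of (Localization.AtPrime p) (LocalizedModule p.primeCompl N)) i, y = 0 := fun y ↦ by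
    obtain ⟨w, rfl⟩ := e.surjective y
    induction w using LocalizedModule.induction_on with
    | h x s => rw [Subsingleton.elim x 0, LocalizedModule.zero_mk, map_zero]
  obtain ⟨d⟩ := nonempty_quotient_equiv I p
  refine subsingleton_of_forall_eq 0 fun x ↦ ?_
  rw [← Abelian.Ext.mk₀_id_comp x, ← d.toModuleIso.inv_hom_id, ← Abelian.Ext.mk₀_comp_mk₀,
    Abelian.Ext.comp_assoc_of_second_deg_zero, hz ((Abelian.Ext.mk₀ _).comp x _),
    Abelian.Ext.comp_zero]

variable {I p}

/-- Maps out of the quotient land in the part killed by the ideal. -/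
theorem smul_hom_eq_zero {V : Type u} [AddCommGroup V] [Module R V]
    [Module (Localization.AtPrime p) V] [IsScalarTower R (Localization.AtPrime p) V]
    (φ : (Localization.AtPrime p ⧸ ext I p) →ₗ[Localization.AtPrime p] V)
    (c : Localization.AtPrime p ⧸ ext I p) {a : R} (ha : a ∈ I) : a • φ c = 0 := by
  obtain ⟨c, rfl⟩ := Submodule.Quotient.mk_surjective _ c
  rw [← algebraMap_smul (Localization.AtPrime p) a, ← map_smul, ← Submodule.Quotient.mk_smul,
    smul_eq_mul,
    (Submodule.Quotient.mk_eq_zero _).2 ((ext I p).mul_mem_right c (algebraMap_mem I p ha)), map_zero]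

/-- An element of a localized module killed by the ideal comes from one killed by the ideal. -/
theorem exists_rep [IsNoetherianRing R] {X : Type u} [AddCommGroup X] [Module R X]
    (z : LocalizedModule p.primeCompl X) (hz : ∀ a ∈ I, a • z = 0) :
    ∃ (y : X) (t : p.primeCompl), (∀ a ∈ I, a • y = 0) ∧ z = LocalizedModule.mk y t := by
  classical
  induction z using LocalizedModule.induction_on with
  | h y₀ s =>
    obtain ⟨T, hT⟩ := IsNoetherian.noetherian I
    have h : ∀ a ∈ I, ∃ u : p.primeCompl, u • a • y₀ = 0 := fun a ha ↦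
      (Local.mk_eq_zero _ _ _).1 ((LocalizedModule.smul'_mk a y₀ s).symm.trans (hz a ha))
    choose! u hu using h
    let U : p.primeCompl := ∏ a ∈ T, u a
    refine ⟨U • y₀, U * s, fun a ha ↦ ?_, (LocalizedModule.mk_cancel_common_left U s y₀).symm⟩
    rw [← hT] at ha
    induction ha using Submodule.span_induction with
    | mem a ha =>
      obtain ⟨v, hv⟩ := Finset.dvd_prod_of_mem u ha
      rw [show U = v * u a from hv.trans (mul_comm _ _), mul_smul, smul_comm, smul_comm a (u a) y₀,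
        hu a (hT ▸ Submodule.subset_span ha), smul_zero]
    | zero => rw [zero_smul]
    | add a b _ _ ha hb => rw [add_smul, ha, hb, add_zero]
    | smul c a _ ha => rw [smul_assoc, ha, smul_zero]

section Graded

variable [IsNoetherianRing R] {ι : Type} [AddCommGroup ι] [DecidableEq ι]
  [Module.Free ℤ ι] [Module.Finite ℤ ι] {𝒜 : ι → AddSubgroup R} [GradedRing 𝒜]
  {X : Type u} [AddCommGroup X] [Module R X] {𝒳 : ι → AddSubgroup X} [DirectSum.Decomposition 𝒳]
  [SetLike.GradedSMul 𝒜 𝒳] (q : HomogeneousIdeal 𝒜)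

/-- Components of an element killed by a homogeneous ideal are killed by it. -/
theorem smul_proj_eq_zero {y : X} (hy : ∀ a ∈ q.toIdeal, a • y = 0) (g : ι) {a : R}
    (ha : a ∈ q.toIdeal) : a • proj 𝒳 g y = 0 := by
  classical
  rw [← sum_proj 𝒜 a, Finset.sum_smul]
  refine Finset.sum_eq_zero fun d _ ↦ ?_
  have h := proj_smul_of_mem 𝒜 𝒳 (proj_mem 𝒜 d a) (d + g) y
  rw [add_sub_cancel_left, hy (proj 𝒜 d a) (q.isHomogeneous d ha), map_zero] at h
  exact h.symm

/-- A map killing an essential homogeneous submodule kills, after localization, what is killed by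
`q`. -/
theorem map_eq_zero_of_ess (hcore : ∀ (d : ι), ∀ a ∈ 𝒜 d, a ∉ q.toIdeal → a ∉ p) {Y : Type u}
    [AddCommGroup Y] [Module R Y] (f : X →ₗ[R] Y) (N : Submodule R X) (hker : N ≤ LinearMap.ker f)
    (hNh : N.IsHomogeneous 𝒳)
    (hN : ∀ Q : Submodule R X, Q.IsHomogeneous 𝒳 → Q ≠ ⊥ → Q ⊓ N ≠ ⊥)
    (z : LocalizedModule p.primeCompl X) (hz : ∀ a ∈ q.toIdeal, a • z = 0) :
    LocalizedModule.map p.primeCompl f z = 0 := by
  classical
  obtain ⟨y, t, hy, rfl⟩ := exists_rep z hz
  rw [LocalizedModule.map_mk, ← sum_proj 𝒳 y, map_sum]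
  suffices h : ∀ g, ∃ u : p.primeCompl, u • f (proj 𝒳 g y) = 0 by
    choose u hu using h
    rw [Local.mk_eq_zero]
    refine ⟨∏ g ∈ supp 𝒳 y, u g, ?_⟩
    rw [Finset.smul_sum]
    refine Finset.sum_eq_zero fun g hg ↦ ?_
    obtain ⟨v, hv⟩ := Finset.dvd_prod_of_mem u hg
    rw [hv, mul_comm, mul_smul, hu, smul_zero]
  intro g
  by_cases h0 : proj 𝒳 g y = 0
  · exact ⟨1, by rw [h0, map_zero, smul_zero]⟩
  have hQ : Submodule.span R {proj 𝒳 g y} ≠ ⊥ := by simpa using h0
  obtain ⟨x, ⟨hx, hxN⟩, hx0⟩ := (Submodule.ne_bot_iff _).1 (hN _ (isHomogeneous_span 𝒜 𝒳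
    (by rintro _ rfl; exact ⟨g, proj_mem 𝒳 g y⟩)) hQ)
  obtain ⟨r, rfl⟩ := Submodule.mem_span_singleton.1 hx
  obtain ⟨d', hd'⟩ := exists_proj_ne_zero 𝒳 hx0
  rw [proj_smul_mem 𝒜 𝒳 (proj_mem 𝒳 g y)] at hd'
  have hmem := proj_mem_of_isHomogeneous hNh d' hxN
  rw [proj_smul_mem 𝒜 𝒳 (proj_mem 𝒳 g y)] at hmem
  refine ⟨⟨proj 𝒜 (d' - g) r, hcore _ _ (proj_mem 𝒜 _ r) fun hr ↦ hd' (smul_proj_eq_zero q hy g hr)⟩, ?_⟩
  exact (map_smul f _ _).symm.trans (LinearMap.mem_ker.1 (hker hmem))

/-- The part killed by `q` becomes free over the quotient at every prime whose homogeneous core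
is `q`. -/
theorem exists_basis [hq : q.toIdeal.IsPrime] : ∃ S : Set X, (∀ x ∈ S, ∃ g, x ∈ 𝒳 g) ∧
    ∀ (p : Ideal R) [p.IsPrime], q.toIdeal ≤ p → (∀ (d : ι), ∀ a ∈ 𝒜 d, a ∉ q.toIdeal → a ∉ p) →
      Nonempty (((Localization.AtPrime p ⧸ ext q.toIdeal p) →ₗ[Localization.AtPrime p]
        LocalizedModule p.primeCompl X) ≃ₗ[Localization.AtPrime p]
          (S →₀ (Localization.AtPrime p ⧸ ext q.toIdeal p))) := by
  classical
  let H : Set X := {x | (∃ g, x ∈ 𝒳 g) ∧ ∀ a ∈ q.toIdeal, a • x = 0}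
  let Ind : Set X → Prop := fun S ↦ S ⊆ H ∧ ∀ c : X →₀ R, ↑c.support ⊆ S →
    Finsupp.linearCombination R id c = 0 → ∀ x, c x ∈ q.toIdeal
  obtain ⟨S, hS⟩ : ∃ S, Maximal (· ∈ {S | Ind S}) S := by
    refine zorn_subset _ fun C hC hch ↦ ?_
    rcases C.eq_empty_or_nonempty with rfl | hne
    · exact ⟨∅, ⟨Set.empty_subset _, fun c hc _ x ↦ by
        rw [Finsupp.notMem_support_iff.1 fun h ↦ hc h]; exact zero_mem _⟩,
        fun s hs ↦ absurd hs (Set.notMem_empty s)⟩
    refine ⟨⋃₀ C, ⟨Set.sUnion_subset fun s hs ↦ (hC hs).1, fun c hc h0 ↦ ?_⟩,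
      fun s hs ↦ Set.subset_sUnion_of_mem hs⟩
    rw [Set.sUnion_eq_biUnion] at hc
    obtain ⟨s, hs, hcs⟩ :=
      DirectedOn.exists_mem_subset_of_finset_subset_biUnion hne hch.directedOn hc
    exact (hC hs).2 c hcs h0
  have hSH : ∀ x ∈ S, (∃ g, x ∈ 𝒳 g) ∧ ∀ a ∈ q.toIdeal, a • x = 0 := fun x hx ↦ hS.prop.1 hx
  have hspan : ∀ y ∈ H, ∃ d, ∃ r ∈ 𝒜 d, r ∉ q.toIdeal ∧ r • y ∈ Submodule.span R S := by
    intro y hy
    by_cases hyS : y ∈ S
    · exact ⟨0, 1, SetLike.one_mem_graded 𝒜, fun h ↦ hq.ne_top ((Ideal.eq_top_iff_one _).2 h),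
        Submodule.smul_mem _ _ (Submodule.subset_span hyS)⟩
    have hnot : ¬ Ind (insert y S) := fun h ↦ hyS
      (hS.le_of_ge h (Set.subset_insert _ _) (Set.mem_insert _ _))
    simp only [Ind, not_and, not_forall] at hnot
    obtain ⟨c, hc, hc0, x, hcx⟩ := hnot (Set.insert_subset hy hS.prop.1)
    have hcy : c y ∉ q.toIdeal := fun hcy ↦ by
      have h0 : Finsupp.linearCombination R id (c.erase y) = 0 := by
        have := congrArg (Finsupp.linearCombination R id) (Finsupp.single_add_erase y c)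
        rwa [map_add, hc0, Finsupp.linearCombination_single, id, hy.2 _ hcy, zero_add] at this
      rcases eq_or_ne x y with rfl | hxy
      · exact hcx hcy
      refine hcx ?_
      have := hS.prop.2 (c.erase y) (fun z hz ↦ ?_) h0 x
      · rwa [Finsupp.erase_ne hxy] at this
      · rw [Finset.mem_coe, Finsupp.support_erase, Finset.mem_erase] at hz
        exact (hc hz.2).resolve_left hz.1
    have hy' : c y • y ∈ Submodule.span R S := by
      have := congrArg (Finsupp.linearCombination R id) (Finsupp.single_add_erase y c)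
      rw [map_add, hc0, Finsupp.linearCombination_single, id, add_eq_zero_iff_eq_neg] at this
      rw [this]
      refine neg_mem ?_
      rw [Finsupp.linearCombination_apply]
      refine Submodule.sum_mem _ fun z hz ↦ Submodule.smul_mem _ _ (Submodule.subset_span ?_)
      rw [Finsupp.support_erase, Finset.mem_erase] at hz
      exact (hc hz.2).resolve_left hz.1
    obtain ⟨g, hg⟩ := hy.1
    obtain ⟨d, hd⟩ : ∃ d, proj 𝒜 d (c y) ∉ q.toIdeal := by
      by_contra! h
      exact hcy (sum_proj 𝒜 (c y) ▸ Ideal.sum_mem _ fun d _ ↦ h d)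
    refine ⟨d, _, proj_mem 𝒜 d (c y), hd, ?_⟩
    have := proj_mem_of_isHomogeneous
      (isHomogeneous_span 𝒜 𝒳 (s := S) fun z hz ↦ (hSH z hz).1) (d + g) hy'
    rwa [proj_smul_mem 𝒜 𝒳 hg, add_sub_cancel_right] at this
  refine ⟨S, fun x hx ↦ (hSH x hx).1, fun p _ hqp hcore ↦ ?_⟩
  let A := Localization.AtPrime p
  let B := A ⧸ ext q.toIdeal p
  let V := LocalizedModule p.primeCompl X
  let gen : S → V := fun x ↦ LocalizedModule.mk (x : X) 1
  have hgenA : ∀ x, ext q.toIdeal p ≤ LinearMap.ker (LinearMap.toSpanSingleton A V (gen x)) := by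
    intro x
    refine Ideal.span_le.2 ?_
    rintro _ ⟨a, ha, rfl⟩
    rw [SetLike.mem_coe, LinearMap.mem_ker, LinearMap.toSpanSingleton_apply, algebraMap_smul,
      LocalizedModule.smul'_mk, (hSH x x.2).2 a ha, LocalizedModule.zero_mk]
  let χ : S → (B →ₗ[A] V) := fun x ↦
    Submodule.liftQ (ext q.toIdeal p) (LinearMap.toSpanSingleton A V (gen x)) (hgenA x)
  have hχ : ∀ x a, χ x (Ideal.Quotient.mk _ a) = a • gen x := fun _ _ ↦ rfl
  let Φ : (S →₀ B) →ₗ[A] V := Finsupp.lsum A χ
  have hinj : Function.Injective Φ := by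
    rw [injective_iff_map_eq_zero]
    intro v hv
    choose a ha using fun x ↦ Ideal.Quotient.mk_surjective (v x)
    obtain ⟨b, hb⟩ := IsLocalization.exist_integer_multiples_of_finset p.primeCompl
      (v.support.image a)
    have hb' : ∀ x ∈ v.support, ∃ r : R, algebraMap R A r = algebraMap R A b * a x := fun x hx ↦ by
      obtain ⟨r, hr⟩ := hb (a x) (Finset.mem_image_of_mem a hx)
      exact ⟨r, hr.trans (Algebra.smul_def _ _)⟩
    choose! r hr using hb'
    have hsum : LocalizedModule.mk (∑ x ∈ v.support, r x • (x : X)) (1 : p.primeCompl) = 0 := by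
      have h1 : algebraMap R A b • Φ v = 0 := by rw [hv, smul_zero]
      rw [Finsupp.lsum_apply, Finsupp.sum, Finset.smul_sum] at h1
      rw [← h1]
      refine (map_sum (LocalizedModule.mkLinearMap p.primeCompl X) _ _).trans
        (Finset.sum_congr rfl fun x hx ↦ ?_)
      rw [← ha x, hχ, ← mul_smul, ← hr x hx, algebraMap_smul, LocalizedModule.smul'_mk]
      rfl
    obtain ⟨u, hu⟩ := (Local.mk_eq_zero _ _ _).1 hsum
    ext x
    rw [Finsupp.zero_apply]
    by_contra hx
    have hxs : x ∈ v.support := Finsupp.mem_support_iff.2 hx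
    let c : X →₀ R := ∑ y ∈ v.support, Finsupp.single (y : X) ((u : R) * r y)
    have hc0 : Finsupp.linearCombination R id c = 0 := by
      rw [map_sum, ← hu, Submonoid.smul_def, Finset.smul_sum]
      exact Finset.sum_congr rfl fun y _ ↦ by
        rw [Finsupp.linearCombination_single, id, mul_smul]
    have hcsupp : ↑c.support ⊆ S := fun z hz ↦ by
      obtain ⟨y, -, hy⟩ := Finset.mem_biUnion.1 (Finsupp.support_finsetSum hz)
      rw [Finset.mem_singleton.1 (Finsupp.support_single_subset hy)]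
      exact y.2
    have hcx := hS.prop.2 c hcsupp hc0 (x : X)
    rw [Finsupp.finsetSum_apply, Finset.sum_eq_single x (fun y _ hy ↦
      Finsupp.single_eq_of_ne fun h ↦ hy (Subtype.ext h.symm)) (fun h ↦ absurd hxs h),
      Finsupp.single_eq_same] at hcx
    have hrx : r x ∈ q.toIdeal := (hq.mem_or_mem hcx).resolve_left fun h ↦ u.2 (hqp h)
    refine hx ?_
    rw [← ha x, Ideal.Quotient.eq_zero_iff_mem]
    refine (Ideal.unit_mul_mem_iff_mem _ (IsLocalization.map_units A b)).1 ?_
    rw [← hr x hxs]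
    exact algebraMap_mem _ _ hrx
  have hrange : ∀ z : V, (∀ a ∈ q.toIdeal, a • z = 0) → z ∈ LinearMap.range Φ := by
    intro z hz
    obtain ⟨y, t, hy, rfl⟩ := exists_rep z hz
    rw [show LocalizedModule.mk y t = Localization.mk 1 t • LocalizedModule.mk y 1 by
      rw [LocalizedModule.mk_smul_mk, one_smul, mul_one]]
    refine Submodule.smul_mem _ _ ?_
    let W : Submodule R X := ((LinearMap.range Φ).restrictScalars R).comap
      (LocalizedModule.mkLinearMap p.primeCompl X)
    suffices y ∈ W from this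
    rw [← sum_proj 𝒳 y]
    refine Submodule.sum_mem _ fun g _ ↦ ?_
    obtain ⟨d, s, hs, hsq, hsy⟩ :=
      hspan _ ⟨⟨g, proj_mem 𝒳 g y⟩, fun a ha ↦ smul_proj_eq_zero q hy g ha⟩
    have hSW : Submodule.span R S ≤ W := Submodule.span_le.2 fun x hx ↦
      ⟨Finsupp.single ⟨x, hx⟩ (Ideal.Quotient.mk _ 1), by
        rw [Finsupp.lsum_single, hχ, one_smul]; rfl⟩
    have h1 : LocalizedModule.mk (s • proj 𝒳 g y) 1 ∈ LinearMap.range Φ := hSW hsy
    show LocalizedModule.mk (proj 𝒳 g y) 1 ∈ LinearMap.range Φ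
    have hsp : s ∈ p.primeCompl := hcore d s hs hsq
    have h2 := Submodule.smul_mem _ (Localization.mk 1 ⟨s, hsp⟩) h1
    rw [LocalizedModule.mk_smul_mk, one_smul, mul_one] at h2
    rwa [← LocalizedModule.mk_cancel (⟨s, hsp⟩ : p.primeCompl) (proj 𝒳 g y)]
  let Ψ : (S →₀ B) →ₗ[A] (B →ₗ[A] V) :=
    { toFun := fun v ↦
        { toFun := fun c ↦ Φ (c • v)
          map_add' := fun c c' ↦ by rw [add_smul, map_add]
          map_smul' := fun a c ↦ by rw [smul_assoc, map_smul]; rfl }
      map_add' := fun v w ↦ LinearMap.ext fun c ↦ show Φ (c • (v + w)) = Φ (c • v) + Φ (c • w) by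
        rw [smul_add, map_add]
      map_smul' := fun a v ↦ LinearMap.ext fun c ↦ show Φ (c • a • v) = a • Φ (c • v) by
        rw [smul_comm, map_smul] }
  refine ⟨(LinearEquiv.ofBijective Ψ ⟨fun v w h ↦ hinj ?_, fun φ ↦ ?_⟩).symm⟩
  · have := LinearMap.congr_fun h 1
    change Φ ((1 : B) • v) = Φ ((1 : B) • w) at this
    rwa [one_smul, one_smul] at this
  · obtain ⟨v, hv⟩ := hrange (φ 1) fun a ha ↦ smul_hom_eq_zero φ 1 ha
    refine ⟨v, LinearMap.ext fun c ↦ ?_⟩
    obtain ⟨a, rfl⟩ := Ideal.Quotient.mk_surjective c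
    have e1 : Ideal.Quotient.mk (ext q.toIdeal p) a = a • (1 : B) := by
      exact (congrArg (Ideal.Quotient.mk _) (mul_one a)).symm
    change Φ (Ideal.Quotient.mk _ a • v) = φ _
    rw [e1, smul_assoc, one_smul, map_smul, map_smul, hv]

/-- Minimal *injective resolutions exist. -/
theorem exists_minimal {M : Type u} [AddCommGroup M] [Module R M] (ℳ : ι → AddSubgroup M)
    [DirectSum.Decomposition ℳ] [SetLike.GradedSMul 𝒜 ℳ] :
    ∃ E : GrLC.StarInjRes 𝒜 ℳ,
      (∀ P : Submodule R (E.X 0).carrier, P.IsHomogeneous (E.X 0).gr → P ≠ ⊥ →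
        P ⊓ LinearMap.range E.ε ≠ ⊥) ∧
      ∀ (n : ℕ) (P : Submodule R (E.X (n + 1)).carrier), P.IsHomogeneous (E.X (n + 1)).gr →
        P ≠ ⊥ → P ⊓ LinearMap.range (E.d n) ≠ ⊥ := by
  have step : ∀ S : Res.Stage 𝒜, ∃ (S' : Res.Stage 𝒜) (d : S.X.carrier →ₗ[R] S'.X.carrier),
      GrLC.IsGrHom S.X.gr S'.X.gr d ∧ LinearMap.ker d = S.B ∧ S'.B = LinearMap.range d ∧
        ∀ P : Submodule R S'.X.carrier, P.IsHomogeneous S'.X.gr → P ≠ ⊥ →
          P ⊓ LinearMap.range d ≠ ⊥ := by
    intro S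
    letI := qDecomp S.X.gr S.B S.hB
    haveI := qGSMul 𝒜 S.X.gr S.B
    obtain ⟨Y, f, hf⟩ := StarInj.exists_hull 𝒜 (qGr S.X.gr S.B)
    have hd : GrLC.IsGrHom S.X.gr Y.gr (f ∘ₗ S.B.mkQ) :=
      fun g x hx => hf.grHom g _ (mkQ_mem_qGr S.X.gr S.B hx)
    refine ⟨⟨Y, _, isHomogeneous_range hd, hf.starInj⟩, f ∘ₗ S.B.mkQ, hd, ?_, rfl, ?_⟩
    · rw [LinearMap.ker_comp, LinearMap.ker_eq_bot.2 hf.injective, Submodule.comap_bot,
        Submodule.ker_mkQ]
    · intro P hP h0
      show P ⊓ LinearMap.range (f ∘ₗ S.B.mkQ) ≠ ⊥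
      have h := hf.essential P hP h0
      convert h using 3
      exact LinearMap.range_comp_of_range_eq_top _ (Submodule.range_mkQ _)
  choose nxt d hd hker hB hess using step
  obtain ⟨X₀, e, he⟩ := StarInj.exists_hull 𝒜 ℳ
  let S₀ : Res.Stage 𝒜 := ⟨X₀, LinearMap.range e, isHomogeneous_range he.grHom, he.starInj⟩
  let st : ℕ → Res.Stage 𝒜 := fun n ↦ Nat.rec S₀ (fun _ S ↦ nxt S) n
  exact ⟨{
    X := fun n ↦ (st n).X
    d := fun n ↦ d (st n)
    ε := e
    d_grHom := fun n ↦ hd _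
    ε_grHom := he.grHom
    ε_injective := he.injective
    exact_zero := hker _
    exact_succ := fun n ↦ (hker (nxt (st n))).trans (hB (st n))
    starInj := fun n ↦ (st n).inj }, he.essential, fun n ↦ hess _⟩

end Graded

end Groth.Agent.H19.Bass.Rel
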