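import Groth.Agent.H19.Bass.Local
import Mathlib.Algebra.DirectSum.Module

/-!
# The socle of a localized sum of envelopes of graded domain quotients
-/

set_option autoImplicit false
set_option linter.unusedSectionVars false

universe u

open CategoryTheory
open Groth.Agent.Lib.Graded Groth.Agent.Lib.Graded.Basic Groth.Agent.Lib.Graded.StarInj

namespace Groth.Agent.H19.Bass.Count

variable {R : Type u} [CommRing R] [IsNoetherianRing R] {ι : Type} [AddCommGroup ι] [DecidableEq ι]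
  [Module.Free ℤ ι] [Module.Finite ℤ ι] {𝒜 : ι → AddSubgroup R} [GradedRing 𝒜] {X : Type u} [AddCommGroup X] [Module R X]
  {𝒳 : ι → AddSubgroup X} [DirectSum.Decomposition 𝒳] [SetLike.GradedSMul 𝒜 𝒳]

/-- Properties of a summand which is an envelope of a shifted domain quotient. -/
theorem summand_props (q : HomogeneousIdeal 𝒜) [q.toIdeal.IsPrime] (g : ι) (J : Submodule R X)
    (hJ : J.IsHomogeneous 𝒳) (f : (R ⧸ q.toIdeal) →ₗ[R] X) (hinj : Function.Injective f)
    (hdeg : GrLC.IsGrHomDeg (GrLC.quotGr 𝒜 q) 𝒳 f g) (hle : LinearMap.range f ≤ J)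
    (hess : ∀ Q : Submodule R X, Q.IsHomogeneous 𝒳 → Q ≤ J → Q ≠ ⊥ → Q ⊓ LinearMap.range f ≠ ⊥) :
    (∀ x ∈ J, x ≠ 0 → ∃ r s : R, s ∉ q.toIdeal ∧ r • x = f (Ideal.Quotient.mk _ s)) ∧
    (∀ r : R, r ∉ q.toIdeal → ∀ x ∈ J, r • x = 0 → x = 0) ∧
    (∀ x ∈ J, ∃ n : ℕ, ∀ r ∈ q.toIdeal ^ n, r • x = 0) := by
  letI := subDecomp 𝒳 J hJ
  haveI := subGSMul 𝒜 𝒳 J
  letI := shiftDecomp (subGr 𝒳 J) g
  haveI := shiftGSMul 𝒜 (subGr 𝒳 J) g
  let f' : (R ⧸ q.toIdeal) →ₗ[R] J := f.codRestrict J fun x ↦ hle ⟨x, rfl⟩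
  have he : GrLC.IsStarEss (GrLC.quotGr 𝒜 q) (shiftGr (subGr 𝒳 J) g) f' := by
    refine ⟨fun a b h ↦ hinj (congrArg Subtype.val h), fun d m hm ↦ hdeg d m hm,
      fun Q hQ hQ0 ↦ ?_⟩
    have hh : (Q.map J.subtype).IsHomogeneous 𝒳 := by
      rintro i _ ⟨y, hy, rfl⟩
      refine ⟨proj (shiftGr (subGr 𝒳 J) g) (i - g) y, hQ (i - g) hy, ?_⟩
      have := map_proj_deg (𝒩 := 𝒳) (f := J.subtype) (ℳ := shiftGr (subGr 𝒳 J) g) (d := g)
        (fun j v hv ↦ hv) (i - g) y
      rwa [sub_add_cancel] at this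
    have h0 : Q.map J.subtype ≠ ⊥ := fun h ↦ hQ0
      (Submodule.map_injective_of_injective J.injective_subtype (h.trans (Submodule.map_bot _).symm))
    obtain ⟨x, ⟨⟨y, hy, rfl⟩, ⟨v, hv⟩⟩, hx0⟩ := (Submodule.ne_bot_iff _).1
      (hess _ hh (Submodule.map_subtype_le _ _) h0)
    exact (Submodule.ne_bot_iff _).2 ⟨y, ⟨hy, v, Subtype.ext hv⟩, fun h ↦ hx0 (by rw [h, map_zero])⟩
  refine ⟨fun x hx hx0 ↦ ?_, fun r hr x hx h ↦ ?_, fun x hx ↦ ?_⟩
  · obtain ⟨r, s, hs, h⟩ := HullPrime.ess_smul he (x := ⟨x, hx⟩) fun h ↦ hx0 (congrArg Subtype.val h)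
    exact ⟨r, s, hs, congrArg Subtype.val h⟩
  · exact congrArg Subtype.val (HullPrime.smul_injective he hr (a₁ := ⟨x, hx⟩) (a₂ := 0)
      (Subtype.ext (by simpa using h)))
  · obtain ⟨n, hn⟩ : (⟨x, hx⟩ : J) ∈ GrLC.gam q.toIdeal J :=
      HullPrime.gam_eq_top he ▸ Submodule.mem_top
    exact ⟨n, fun r hr ↦ congrArg Subtype.val (hn r hr)⟩

/-- The socle of the localization at `p` of a sum of envelopes has the summands at `p` as a basis. -/
theorem length_hom {Λ : Type u} (P : Λ → HomogeneousIdeal 𝒜) (hP : ∀ α, (P α).toIdeal.IsPrime)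
    (g : Λ → ι) (J : Λ → Submodule R X) (hJ : ∀ α, (J α).IsHomogeneous 𝒳) (hind : iSupIndep J)
    (htop : iSup J = ⊤) (f : ∀ α, (R ⧸ (P α).toIdeal) →ₗ[R] X)
    (hf : ∀ α, Function.Injective (f α) ∧ GrLC.IsGrHomDeg (GrLC.quotGr 𝒜 (P α)) 𝒳 (f α) (g α) ∧
      LinearMap.range (f α) ≤ J α ∧ ∀ Q : Submodule R X, Q.IsHomogeneous 𝒳 → Q ≤ J α → Q ≠ ⊥ →
        Q ⊓ LinearMap.range (f α) ≠ ⊥) (p : HomogeneousIdeal 𝒜) [p.toIdeal.IsPrime] :
    Module.length (Localization.AtPrime p.toIdeal)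
      (IsLocalRing.ResidueField (Localization.AtPrime p.toIdeal) →ₗ[Localization.AtPrime p.toIdeal]
        LocalizedModule p.toIdeal.primeCompl X) =
      Cardinal.toENat (Cardinal.mk {α : Λ // P α = p}) := by
  classical
  have hprops := fun α ↦ haveI := hP α
    summand_props (P α) (g α) (J α) (hJ α) (f α) (hf α).1 (hf α).2.1 (hf α).2.2.1 (hf α).2.2.2
  let A := Localization.AtPrime p.toIdeal
  let k := IsLocalRing.ResidueField A
  let V := LocalizedModule p.toIdeal.primeCompl X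
  let gen : {α : Λ // P α = p} → V := fun α ↦ LocalizedModule.mk (f α.1 1) 1
  have hgen : ∀ α, ∀ a ∈ p.toIdeal, a • gen α = 0 := fun α a ha ↦ by
    rw [LocalizedModule.smul'_mk, ← map_smul, show a • (1 : R ⧸ (P α.1).toIdeal) =
      Ideal.Quotient.mk _ (a * 1) from rfl, mul_one, Ideal.Quotient.eq_zero_iff_mem.2 (show a ∈ (P α.1).toIdeal by rw [α.2]; exact ha),
      map_zero, LocalizedModule.zero_mk]
  have hgenA : ∀ α, IsLocalRing.maximalIdeal A ≤ LinearMap.ker (LinearMap.toSpanSingleton A V (gen α)) := by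
    intro α a ha
    rw [← Localization.AtPrime.map_eq_maximalIdeal] at ha
    exact Ideal.span_le.2 (by
      rintro _ ⟨a, ha, rfl⟩
      rw [SetLike.mem_coe, LinearMap.mem_ker, LinearMap.toSpanSingleton_apply, algebraMap_smul,
        hgen α a ha]) ha
  let χ : {α : Λ // P α = p} → (k →ₗ[A] V) := fun α ↦
    Submodule.liftQ (IsLocalRing.maximalIdeal A) (LinearMap.toSpanSingleton A V (gen α)) (hgenA α)
  have hχ : ∀ α a, χ α (IsLocalRing.residue A a) = a • gen α := fun _ _ ↦ rfl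
  let Φ : ({α : Λ // P α = p} →₀ k) →ₗ[A] V := Finsupp.lsum A χ
  have hint : DirectSum.IsInternal J :=
    DirectSum.isInternal_submodule_iff_iSupIndep_and_iSup_eq_top J |>.2 ⟨hind, htop⟩
  let := hint.chooseDecomposition
  let π : Λ → X →ₗ[R] X := fun α ↦ (J α).subtype ∘ₗ DirectSum.component R Λ (fun β ↦ J β) α ∘ₗ
    (DirectSum.decomposeLinearEquiv J).toLinearMap
  have hπ : ∀ α (x : X), π α x = (DirectSum.decompose J x α : X) := fun _ _ ↦ rfl
  have hne : ∀ α, gen α ≠ 0 := fun α h ↦ by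
    obtain ⟨u, hu⟩ := (Local.mk_eq_zero _ _ _).1 h
    rw [Submonoid.smul_def, ← map_smul, ← map_zero (f α.1), (hf α.1).1.eq_iff,
      show (u : R) • (1 : R ⧸ (P α.1).toIdeal) = Ideal.Quotient.mk _ ((u : R) * 1) from rfl,
      mul_one, Ideal.Quotient.eq_zero_iff_mem, α.2] at hu
    exact u.2 hu
  have hinj : Function.Injective Φ := by
    rw [injective_iff_map_eq_zero]
    intro v hv
    ext α
    obtain ⟨a, ha⟩ := IsLocalRing.residue_surjective (v α)
    have hproj : LocalizedModule.map p.toIdeal.primeCompl (π α.1) (Φ v) = a • gen α := by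
      simp only [Φ]
      rw [Finsupp.lsum_apply, Finsupp.sum, map_sum, Finset.sum_eq_single α]
      · rw [← ha, hχ, map_smul,
          LocalizedModule.map_mk, hπ, DirectSum.decompose_of_mem_same J ((hf α.1).2.2.1 ⟨1, rfl⟩)]
      · intro β _ hβ
        obtain ⟨b, hb⟩ := IsLocalRing.residue_surjective (v β)
        rw [← hb, hχ, map_smul,
          LocalizedModule.map_mk, hπ, DirectSum.decompose_of_mem_ne J ((hf β.1).2.2.1 ⟨1, rfl⟩)
            (fun h ↦ hβ (Subtype.ext h)), LocalizedModule.zero_mk, smul_zero]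
      · intro h
        rw [Finsupp.notMem_support_iff.1 h, map_zero, map_zero]
    rw [hv, map_zero] at hproj
    rw [Finsupp.zero_apply, ← ha]
    refine (IsLocalRing.residue_eq_zero_iff _).2 ?_
    rw [IsLocalRing.mem_maximalIdeal, mem_nonunits_iff]
    exact fun hu ↦ hne α (hu.smul_eq_zero.1 hproj.symm)
  have hrange : ∀ z : V, (∀ a ∈ p.toIdeal, a • z = 0) → z ∈ LinearMap.range Φ := by
    intro z hz
    obtain ⟨y, t, hy, rfl⟩ := Local.exists_rep z hz
    rw [show LocalizedModule.mk y t = Localization.mk 1 t • LocalizedModule.mk y 1 by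
      rw [LocalizedModule.mk_smul_mk, one_smul, mul_one]]
    refine Submodule.smul_mem _ _ ?_
    have hsum : LocalizedModule.mk y (1 : p.toIdeal.primeCompl) = ∑ α ∈ (DirectSum.decompose J y).support,
        LocalizedModule.mk (DirectSum.decompose J y α : X) 1 := by
      conv_lhs => rw [← DirectSum.sum_support_decompose J y]
      exact map_sum (LocalizedModule.mkLinearMap p.toIdeal.primeCompl X) _ _
    rw [hsum]
    refine Submodule.sum_mem _ fun α _ ↦ ?_
    set x : X := ↑(DirectSum.decompose J y α) with hx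
    have hxJ : x ∈ J α := (DirectSum.decompose J y α).2
    have hxp : ∀ a ∈ p.toIdeal, a • x = 0 := fun a ha ↦ by
      rw [hx, ← hπ, ← map_smul, hy a ha, map_zero]
    by_cases hxz : LocalizedModule.mk x (1 : p.toIdeal.primeCompl) = 0
    · rw [hxz]
      exact zero_mem _
    have hx0 : x ≠ 0 := fun h ↦ hxz (by rw [h, LocalizedModule.zero_mk])
    by_cases hα : P α = p
    · obtain ⟨r, s, hs, hrs⟩ := (hprops α).1 x hxJ hx0
      have hr : r ∈ p.toIdeal.primeCompl := fun hr ↦ hs (Ideal.Quotient.eq_zero_iff_mem.1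
        ((hf α).1 ((hrs.symm.trans (hxp r hr)).trans (map_zero (f α)).symm)))
      refine ⟨Finsupp.single ⟨α, hα⟩ (IsLocalRing.residue A (Localization.mk s ⟨r, hr⟩)), ?_⟩
      simp only [Φ]
      rw [Finsupp.lsum_single, hχ,
        LocalizedModule.mk_smul_mk, mul_one, ← map_smul,
        show s • (1 : R ⧸ (P α).toIdeal) = Ideal.Quotient.mk _ (s * 1) from rfl, mul_one, ← hrs]
      exact LocalizedModule.mk_cancel (⟨r, hr⟩ : p.toIdeal.primeCompl) x
    · refine absurd ?_ hxz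
      rw [Local.mk_eq_zero]
      haveI := hP α
      by_cases hle : (P α).toIdeal ≤ p.toIdeal
      · obtain ⟨a, hap, haq⟩ := SetLike.exists_of_lt (lt_of_le_of_ne hle fun h ↦ hα
          (HomogeneousIdeal.toIdeal_injective h))
        exact absurd ((hprops α).2.1 a haq x hxJ (hxp a hap)) hx0
      · obtain ⟨a, haq, hap⟩ := SetLike.not_le_iff_exists.1 hle
        obtain ⟨n, hn⟩ := (hprops α).2.2 x hxJ
        exact ⟨⟨a ^ n, fun h ↦ hap (Ideal.IsPrime.mem_of_pow_mem ‹_› n h)⟩,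
          hn _ (Ideal.pow_mem_pow haq n)⟩
  let Ψ : ({α : Λ // P α = p} →₀ k) →ₗ[A] (k →ₗ[A] V) :=
    { toFun := fun v ↦
        { toFun := fun c ↦ Φ (c • v)
          map_add' := fun c c' ↦ by rw [add_smul, map_add]
          map_smul' := fun a c ↦ by rw [smul_assoc, map_smul]; rfl }
      map_add' := fun v w ↦ LinearMap.ext fun c ↦ show Φ (c • (v + w)) = Φ (c • v) + Φ (c • w) by
        rw [smul_add, map_add]
      map_smul' := fun a v ↦ LinearMap.ext fun c ↦ show Φ (c • a • v) = a • Φ (c • v) by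
        rw [smul_comm, map_smul] }
  have hΨ : Function.Bijective Ψ := by
    refine ⟨fun v w h ↦ hinj ?_, fun φ ↦ ?_⟩
    · have := LinearMap.congr_fun h 1
      change Φ ((1 : k) • v) = Φ ((1 : k) • w) at this
      rwa [one_smul, one_smul] at this
    · obtain ⟨v, hv⟩ := hrange (φ 1) fun a ha ↦ Local.smul_hom_eq_zero φ 1 ha
      refine ⟨v, LinearMap.ext fun c ↦ ?_⟩
      obtain ⟨a, rfl⟩ := IsLocalRing.residue_surjective c
      have e1 : IsLocalRing.residue A a = a • (1 : k) := by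
        rw [Algebra.smul_def, mul_one, IsLocalRing.ResidueField.algebraMap_eq]
      change Φ (IsLocalRing.residue A a • v) = φ _
      rw [e1, smul_assoc, one_smul, map_smul, map_smul, hv]
  rw [← (LinearEquiv.ofBijective Ψ hΨ).length_eq,
    Module.length_eq_of_surjective (R := k) IsLocalRing.residue_surjective, Module.length_eq_rank,
    rank_finsupp_self']

end Groth.Agent.H19.Bass.Count
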