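import Groth.Agent.Lib.Goren.Artin
import Groth.Agent.Lib.Depth.Ext
import Groth.Agent.Lib.Depth.Local
import Groth.Agent.Lib.InjHull.BaseChange
import Groth.Agent.Lib.LCFin.ExtLoc

/-!
# `Ext` of the residue field into a Gorenstein local ring
-/

set_option autoImplicit false
set_option linter.style.haveILetI false

universe u

open CategoryTheory IsLocalRing
open Groth.Agent.Lib

namespace Groth.Agent.H19.Bass.GorLocal

variable {A : Type u} [CommRing A] [IsLocalRing A]

/-- The residue field has no `Ext` below the dimension into a Gorenstein quotient, and a simple one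
in the dimension. -/
theorem main : ∀ (d : ℕ) (B : Type u) [CommRing B] [Algebra A B] [LocCoh.IsGorensteinLocalRing B],
    Function.Surjective (algebraMap A B) → ringKrullDim B = d →
    (∀ i < d, Subsingleton (Abelian.Ext.{u} (ModuleCat.of A (ResidueField A)) (ModuleCat.of A B) i)) ∧
      Module.length A (Abelian.Ext.{u} (ModuleCat.of A (ResidueField A)) (ModuleCat.of A B) d) = 1 := by
  intro d
  induction d with
  | zero =>
    intro B _ _ _ hsurj hdim
    refine ⟨fun i hi ↦ absurd hi (Nat.not_lt_zero i), ?_⟩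
    have : Ring.KrullDimLE 0 B := Ring.krullDimLE_iff.2 (by rw [hdim])
    have : IsArtinianRing B := IsNoetherianRing.isArtinianRing_of_krullDimLE_zero
    have h := (Goren.Artin.isGorensteinLocalRing_iff_socle (A := B)).1 inferInstance
    have : IsLocalHom (algebraMap A B) := IsLocalHom.of_surjective _ hsurj
    have hmem : ∀ a, a ∈ maximalIdeal A ↔ algebraMap A B a ∈ maximalIdeal B := fun a ↦ by
      simp only [IsLocalRing.mem_maximalIdeal, mem_nonunits_iff, isUnit_map_iff]
    have e : LocCoh.torsionBy (maximalIdeal A) B ≃ₗ[A]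
        (LocCoh.torsionBy (maximalIdeal B) B).restrictScalars A := by
      refine LinearEquiv.ofEq _ _ (Submodule.ext fun b ↦ ?_)
      rw [Submodule.restrictScalars_mem, Submodule.mem_torsionBySet_iff, Submodule.mem_torsionBySet_iff]
      refine ⟨fun hb c ↦ ?_, fun hb c ↦ ?_⟩
      · obtain ⟨a, ha⟩ := hsurj (c : B)
        have := hb ⟨a, (hmem a).2 (ha ▸ c.2)⟩
        rwa [Algebra.smul_def, ha] at this
      · rw [Algebra.smul_def]
        exact hb ⟨_, (hmem c).1 c.2⟩
    have e2 : (ResidueField A →ₗ[A] B) ≃ₗ[A] LocCoh.torsionBy (maximalIdeal A) B :=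
      InjHull.BaseChange.homQuotientEquiv (maximalIdeal A) B
    rw [((LCFin.ExtLoc.homEquiv (ResidueField A) B).trans (e2.trans e)).length_eq,
      Module.length_eq_of_surjective (R := B) hsurj]
    exact h
  | succ d ih =>
    intro B _ _ _ hsurj hdim
    obtain ⟨n, hn⟩ := LocCoh.IsGorensteinLocalRing.exists_hasInjectiveDimensionLT (A := B)
    obtain ⟨-, -, -, hCM, -⟩ := Goren.Basic.exists_dim hn
    have hdepth : LocCoh.depth B B = (d + 1 : ℕ) := by
      have h := (Depth.CM.ringKrullDim_eq_depth (R := B)).symm.trans hdim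
      exact WithBot.coe_injective h
    obtain ⟨x, hx, hreg, -, -⟩ := Depth.Local.exists_regular_of_idealDepth_eq_succ hdepth
    obtain ⟨a, ha⟩ := hsurj x
    have ha' : a ∈ maximalIdeal A := by
      have : IsLocalHom (algebraMap A B) := IsLocalHom.of_surjective _ hsurj
      rw [IsLocalRing.mem_maximalIdeal, mem_nonunits_iff, ← isUnit_map_iff (algebraMap A B), ha]
      exact (IsLocalRing.mem_maximalIdeal x).1 hx
    let B' := B ⧸ Ideal.span {x}
    have := Goren.Basic.isLocalRing_quotient_span hx
    have : LocCoh.IsGorensteinLocalRing B' :=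
      (Goren.Basic.isGorensteinLocalRing_quotient_iff hx hreg).1 inferInstance
    have hdim' : ringKrullDim B' = d := by
      have h1 := (ringKrullDim_quotient_span_singleton_succ_eq_ringKrullDim hreg hx).trans hdim
      rw [Nat.cast_succ] at h1
      exact (ENat.WithBot.add_natCast_cancel (c := 1)).1 (by exact_mod_cast h1)
    obtain ⟨hlow, htop⟩ := ih B' (Ideal.Quotient.mk_surjective.comp hsurj) hdim'
    let μ : B →ₗ[A] B := a • LinearMap.id
    let π : B →ₗ[A] B' := (Ideal.Quotient.mkₐ A (Ideal.span {x})).toLinearMap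
    have hμ : ∀ b, μ b = x * b := fun b ↦ by simp [μ, Algebra.smul_def, ha]
    have hμinj : Function.Injective μ := fun b c h ↦ by
      rw [hμ, hμ] at h
      exact hreg h
    have hπ : Function.Surjective π := Ideal.Quotient.mk_surjective
    have hex : Function.Exact μ π := fun b ↦ by
      change Ideal.Quotient.mk _ b = 0 ↔ _
      rw [Ideal.Quotient.eq_zero_iff_mem, Ideal.mem_span_singleton']
      exact ⟨fun ⟨c, hc⟩ ↦ ⟨c, by rw [hμ, mul_comm, hc]⟩,
        fun ⟨c, hc⟩ ↦ ⟨c, by rw [← hc, hμ, mul_comm]⟩⟩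
    have hS := LCFin.Seq.ses_shortExact hμinj hπ hex
    let k := ModuleCat.of A (ResidueField A)
    have hkill : ∀ {i : ℕ} (w : Abelian.Ext.{u} k (ModuleCat.of A B) i),
        w.comp (Abelian.Ext.mk₀ (ModuleCat.ofHom μ)) (add_zero i) = 0 := fun {i} w ↦ by
      rw [show ModuleCat.ofHom μ = a • 𝟙 (ModuleCat.of A B) from rfl,
        ← Abelian.Ext.smul_eq_comp_mk₀]
      exact Depth.Ext.smul_eq_zero_of_annihilator_src
        (Goren.Basic.mem_annihilator_residueField ha') w
    have hvan : ∀ i < d + 1, Subsingleton (Abelian.Ext.{u} k (ModuleCat.of A B) i) := by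
      intro i hi
      refine subsingleton_of_forall_eq 0 fun w ↦ ?_
      cases i with
      | zero =>
        refine (LCFin.ExtLoc.homEquiv (ResidueField A) B).injective ?_
        rw [map_zero]
        refine LinearMap.ext fun c ↦ hμinj ?_
        rw [LinearMap.zero_apply, map_zero]
        show a • LCFin.ExtLoc.homEquiv _ B w c = 0
        rw [← map_smul, Module.mem_annihilator.1 (Goren.Basic.mem_annihilator_residueField ha') c,
          map_zero]
      | succ i =>
        obtain ⟨y, rfl⟩ := Abelian.Ext.covariant_sequence_exact₁ k hS w (hkill w) rfl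
        rw [(hlow i (Nat.lt_of_succ_lt_succ hi)).elim y 0, Abelian.Ext.zero_comp]
    refine ⟨hvan, ?_⟩
    let δ : Abelian.Ext.{u} k (ModuleCat.of A B') d →ₗ[A] Abelian.Ext.{u} k (ModuleCat.of A B) (d + 1) :=
      { toFun := fun y ↦ y.comp hS.extClass rfl
        map_add' := fun _ _ ↦ Abelian.Ext.add_comp ..
        map_smul' := fun _ _ ↦ Abelian.Ext.smul_comp .. }
    refine (LinearEquiv.ofBijective δ ⟨?_, fun w ↦ ?_⟩).length_eq.symm.trans htop
    · rw [← LinearMap.ker_eq_bot, Submodule.eq_bot_iff]
      intro y hy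
      obtain ⟨z, rfl⟩ := Abelian.Ext.covariant_sequence_exact₃ k hS y rfl hy
      rw [(hvan d d.lt_succ_self).elim z 0, Abelian.Ext.zero_comp]
    · exact Abelian.Ext.covariant_sequence_exact₁ k hS w (hkill w) rfl

/-- In a Gorenstein local ring of dimension `d`, `Ext^i(k, A)` is zero for `i ≠ d` and simple for
`i = d`. -/
theorem length_ext_self {A : Type u} [CommRing A] [LocCoh.IsGorensteinLocalRing A] (d : ℕ) (hd : ringKrullDim A = d) :
    (∀ i, i ≠ d → Subsingleton
      (Abelian.Ext.{u} (ModuleCat.of A (ResidueField A)) (ModuleCat.of A A) i)) ∧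
      Module.length A (Abelian.Ext.{u} (ModuleCat.of A (ResidueField A)) (ModuleCat.of A A) d) = 1 := by
  obtain ⟨hlow, htop⟩ := main d A Function.surjective_id hd
  refine ⟨fun i hi ↦ ?_, htop⟩
  rcases lt_or_gt_of_ne hi with h | h
  · exact hlow i h
  · obtain ⟨n, hn⟩ := LocCoh.IsGorensteinLocalRing.exists_hasInjectiveDimensionLT (A := A)
    obtain ⟨d', hd', -, -, hinj⟩ := Goren.Basic.exists_dim hn
    obtain rfl : d' = d := by
      have := hd'.symm.trans hd
      exact_mod_cast this
    exact HasInjectiveDimensionLT.subsingleton (ModuleCat.of A A) (d' + 1) i h _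

end Groth.Agent.H19.Bass.GorLocal
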