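import Groth.Agent.H19.Bass.GorLocal
import Groth.Agent.H19.Bass.Rel
import Groth.Agent.Lib.Graded.HullPrime
import Groth.Agent.Lib.Graded.Chain
import Groth.Prelude.Def_CAlg
import Groth.Prelude.Def_GrLC2

/-!
# The top local cohomology of a Gorenstein *local ring
-/

set_option autoImplicit false
set_option linter.unusedSectionVars false
set_option linter.style.haveILetI false
set_option linter.overlappingInstances false

universe u

open CategoryTheory
open Groth.Agent.Lib Groth.Agent.Lib.Graded Groth.Agent.Lib.Graded.Basic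
open Groth.Agent.Lib.Graded.StarInj

namespace Groth.Agent.H19.Bass.Gorenstein

variable {R : Type u} [CommRing R] [IsNoetherianRing R] {ι : Type} [AddCommGroup ι] [DecidableEq ι]
  {𝒜 : ι → AddSubgroup R} [GradedRing 𝒜] {m : HomogeneousIdeal 𝒜}

/-- Every proper homogeneous ideal lies in the *maximal ideal. -/
theorem le_of_ne_top (hm : GrLC.IsStarLocal 𝒜 m) {P : Ideal R} (hPh : P.IsHomogeneous 𝒜)
    (hP : P ≠ ⊤) : P ≤ m.toIdeal := by
  obtain ⟨J, ⟨hPJ, hJh, hJ⟩, hmax⟩ := set_has_maximal_iff_noetherian.2 ‹IsNoetherianRing R›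
    {J : Ideal R | P ≤ J ∧ J.IsHomogeneous 𝒜 ∧ J ≠ ⊤} ⟨_, le_rfl, hPh, hP⟩
  have hco : IsCoatom (⟨J, hJh⟩ : HomogeneousIdeal 𝒜) :=
    ⟨fun h ↦ hJ (congrArg HomogeneousIdeal.toIdeal h),
      fun (K : HomogeneousIdeal 𝒜) hK ↦ HomogeneousIdeal.ext (by_contra fun hne ↦ hmax K.toIdeal
        ⟨hPJ.trans hK.le, K.isHomogeneous, hne⟩ hK)⟩
  rw [← hm.2 _ hco]
  exact hPJ

/-- A homogeneous element outside the *maximal ideal is a unit. -/
theorem isUnit_hom (hm : GrLC.IsStarLocal 𝒜 m) {g : ι} {r : R} (hr : r ∈ 𝒜 g)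
    (hrm : r ∉ m.toIdeal) : IsUnit r := by
  by_contra hu
  refine hrm (le_of_ne_top hm (Ideal.homogeneous_span 𝒜 {r} fun x hx ↦ ⟨g, ?_⟩)
    (fun h ↦ hu (Ideal.span_singleton_eq_top.1 h)) (Ideal.mem_span_singleton_self r))
  rwa [Set.mem_singleton_iff.1 hx]

variable [hmP : m.toIdeal.IsPrime] {X : Type u} [AddCommGroup X] [Module R X]
  {𝒳 : ι → AddSubgroup X} [DirectSum.Decomposition 𝒳] [SetLike.GradedSMul 𝒜 𝒳]

/-- A homogeneous element with a multiple by an element outside `m` in a homogeneous submodule is in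
that submodule. -/
theorem mem_of_smul_mem (hm : GrLC.IsStarLocal 𝒜 m) {P : Submodule R X} (hP : P.IsHomogeneous 𝒳)
    {g : ι} {x : X} (hx : x ∈ 𝒳 g) {u : R} (hu : u ∉ m.toIdeal) (hux : u • x ∈ P) : x ∈ P := by
  classical
  obtain ⟨i, hi⟩ : ∃ i, proj 𝒜 i u ∉ m.toIdeal := by
    by_contra h
    push Not at h
    exact hu (sum_proj 𝒜 u ▸ sum_mem fun i _ ↦ h i)
  have h := proj_mem_of_isHomogeneous hP (i + g) hux
  rw [proj_smul_mem 𝒜 𝒳 hx, add_sub_cancel_right] at h
  exact (Submodule.smul_mem_iff_of_isUnit P (isUnit_hom hm (proj_mem 𝒜 i u) hi)).1 h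

/-- Localizing at `m` loses no homogeneous element. -/
theorem hom_eq_zero (hm : GrLC.IsStarLocal 𝒜 m) {g : ι} {x : X} (hx : x ∈ 𝒳 g)
    (h : LocalizedModule.mk x (1 : m.toIdeal.primeCompl) = 0) : x = 0 := by
  obtain ⟨u, hu⟩ := (Local.mk_eq_zero _ _ _).1 h
  exact (Submodule.mem_bot R).1 (mem_of_smul_mem hm (isHomogeneous_bot (ℳ := 𝒳)) hx u.2
    ((Submodule.mem_bot R).2 hu))

/-- An element killed by `m` gives a map out of the residue field of the local ring. -/
theorem exists_residue_hom (x : X) (hx : ∀ a ∈ m.toIdeal, a • x = 0) :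
    ∃ φ : IsLocalRing.ResidueField (Localization.AtPrime m.toIdeal) →ₗ[Localization.AtPrime m.toIdeal]
      LocalizedModule m.toIdeal.primeCompl X, φ 1 = LocalizedModule.mk x 1 := by
  refine ⟨Submodule.liftQ _ (LinearMap.toSpanSingleton _ _
    (LocalizedModule.mk x (1 : m.toIdeal.primeCompl))) ?_, ?_⟩
  · rw [← Localization.AtPrime.map_eq_maximalIdeal, Ideal.map, Submodule.span_le]
    rintro _ ⟨a, ha, rfl⟩
    rw [SetLike.mem_coe, LinearMap.mem_ker, LinearMap.toSpanSingleton_apply, algebraMap_smul,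
      LocalizedModule.smul'_mk, hx a ha, LocalizedModule.zero_mk]
  · exact LinearMap.toSpanSingleton_apply_one (Localization.AtPrime m.toIdeal) _ _

/-- Without homogeneous socle there is no torsion. -/
theorem inf_gam_eq_bot {P : Submodule R X} (hP : P.IsHomogeneous 𝒳)
    (h : ∀ g, ∀ x ∈ P, x ∈ 𝒳 g → (∀ a ∈ m.toIdeal, a • x = 0) → x = 0) :
    P ⊓ GrLC.gam m.toIdeal X = ⊥ := by
  classical
  by_contra hne
  obtain ⟨g, x, hxg, hxP, hx0⟩ := exists_hom_mem_ne_zero
    (isHomogeneous_inf hP (Res.isHomogeneous_gam 𝒜 𝒳 m)) hne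
  obtain ⟨hxP, hxΓ⟩ := hxP
  let k := Nat.find hxΓ
  have hk : ∀ r ∈ m.toIdeal ^ k, r • x = 0 := Nat.find_spec hxΓ
  rcases hk0 : k with _ | k'
  · exact hx0 (by simpa using hk 1 (by rw [hk0, pow_zero, Ideal.one_eq_top]; trivial))
  · have hmin := Nat.find_min hxΓ (show k' < k by omega)
    push Not at hmin
    obtain ⟨b, hb, hbx⟩ := hmin
    obtain ⟨i, hi⟩ : ∃ i, proj 𝒜 i b • x ≠ 0 := by
      by_contra hall
      push Not at hall
      exact hbx (by rw [← sum_proj 𝒜 b, Finset.sum_smul]; exact Finset.sum_eq_zero fun i _ ↦ hall i)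
    refine hi (h (i + g) _ (P.smul_mem _ hxP) (smul_mem_add 𝒜 𝒳 (proj_mem 𝒜 i b) hxg) fun a ha ↦ ?_)
    rw [smul_smul]
    refine hk _ ?_
    rw [hk0, pow_succ']
    exact Ideal.mul_mem_mul ha (Res.isHomogeneous_pow 𝒜 m k' i hb)

section Main

variable [Module.Free ℤ ι] [Module.Finite ℤ ι]

/-- The minimal *injective resolution of a Gorenstein *local ring has the residue field, once, in
degree the height, as its part supported at `m`. -/
theorem length_hom [LocCoh.IsGorensteinRing R] (n : ℕ) (hn : m.toIdeal.height = n)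
    (E : GrLC.StarInjRes 𝒜 𝒜)
    (hmin0 : ∀ P : Submodule R (E.X 0).carrier, P.IsHomogeneous (E.X 0).gr → P ≠ ⊥ →
      P ⊓ LinearMap.range E.ε ≠ ⊥)
    (hmin : ∀ (n : ℕ) (P : Submodule R (E.X (n + 1)).carrier), P.IsHomogeneous (E.X (n + 1)).gr →
      P ≠ ⊥ → P ⊓ LinearMap.range (E.d n) ≠ ⊥) :
    (∀ j, j ≠ n → Subsingleton (IsLocalRing.ResidueField (Localization.AtPrime m.toIdeal)
        →ₗ[Localization.AtPrime m.toIdeal] LocalizedModule m.toIdeal.primeCompl (E.X j).carrier)) ∧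
      IsSimpleModule (Localization.AtPrime m.toIdeal)
        (IsLocalRing.ResidueField (Localization.AtPrime m.toIdeal)
          →ₗ[Localization.AtPrime m.toIdeal] LocalizedModule m.toIdeal.primeCompl (E.X n).carrier) := by
  have hA : LocCoh.IsGorensteinLocalRing (Localization.AtPrime m.toIdeal) :=
    LocCoh.IsGorensteinRing.isGorensteinLocalRing_localization _
  have hdim : ringKrullDim (Localization.AtPrime m.toIdeal) = n := by
    rw [IsLocalization.AtPrime.ringKrullDim_eq_height m.toIdeal (Localization.AtPrime m.toIdeal), hn]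
    rfl
  obtain ⟨hlow, htop⟩ := GorLocal.length_ext_self n hdim
  have eR : LocalizedModule m.toIdeal.primeCompl R ≃ₗ[Localization.AtPrime m.toIdeal]
      Localization.AtPrime m.toIdeal :=
    (IsLocalizedModule.iso m.toIdeal.primeCompl (Algebra.linearMap R
      (Localization.AtPrime m.toIdeal))).extendScalarsOfIsLocalization m.toIdeal.primeCompl _
  have key : ∀ j, Module.length (Localization.AtPrime m.toIdeal)
      (IsLocalRing.ResidueField (Localization.AtPrime m.toIdeal)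
        →ₗ[Localization.AtPrime m.toIdeal] LocalizedModule m.toIdeal.primeCompl (E.X j).carrier) =
      Module.length (Localization.AtPrime m.toIdeal) (Abelian.Ext.{u}
        (ModuleCat.of (Localization.AtPrime m.toIdeal)
          (IsLocalRing.ResidueField (Localization.AtPrime m.toIdeal)))
        (ModuleCat.of (Localization.AtPrime m.toIdeal) (Localization.AtPrime m.toIdeal)) j) := fun j ↦
    (Main.bassNum_eq m E hmin0 hmin j).symm.trans (Main.length_ext_congr _ eR j)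
  refine ⟨fun j hj ↦ ?_, Module.length_eq_one_iff.1 ((key n).trans htop)⟩
  have := hlow j hj
  exact Module.length_eq_zero_iff.1 ((key j).trans Module.length_eq_zero)

/-- The top local cohomology of a Gorenstein *local ring is the shifted *injective hull of the
residue field. -/
theorem exists_top_equiv [LocCoh.IsGorensteinRing R] (hm : GrLC.IsStarLocal 𝒜 m) (n : ℕ)
    (hn : m.toIdeal.height = n) (I : GrLC.StarInjRes 𝒜 𝒜) (E' : Type u) [AddCommGroup E']
    [Module R E'] (𝓔 : ι → AddSubgroup E') [DirectSum.Decomposition 𝓔] [SetLike.GradedSMul 𝒜 𝓔]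
    (e : (R ⧸ m.toIdeal) →ₗ[R] E') (he : GrLC.IsStarInjHull 𝒜 (GrLC.quotGr 𝒜 m) 𝓔 e) :
    ∃ (g : ι) (φ : I.H m n ≃ₗ[R] E'), GrLC.IsGrHomDeg (I.Hgr m n) 𝓔 φ.toLinearMap g := by
  obtain ⟨E, hmin0, hmin⟩ := Rel.exists_minimal (𝒜 := 𝒜) (M := R) 𝒜
  obtain ⟨hne, hsimple⟩ := length_hom n hn E hmin0 hmin
  -- no torsion away from the height
  have hoff : ∀ j, j ≠ n → GrLC.gam m.toIdeal (E.X j).carrier = ⊥ := by
    intro j hj
    have := hne j hj
    rw [← top_inf_eq (a := GrLC.gam m.toIdeal (E.X j).carrier)]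
    refine inf_gam_eq_bot (𝒳 := (E.X j).gr) isHomogeneous_top fun g x _ hxg hx ↦ ?_
    obtain ⟨φ, hφ⟩ := exists_residue_hom x hx
    exact hom_eq_zero hm hxg (by rw [← hφ, Subsingleton.elim φ 0, LinearMap.zero_apply])
  -- a homogeneous socle element in degree the height
  obtain ⟨g0, y, hyg, hy, hy0⟩ :
      ∃ g0, ∃ y, y ∈ (E.X n).gr g0 ∧ (∀ a ∈ m.toIdeal, a • y = 0) ∧ y ≠ 0 := by
    by_contra hcon
    push Not at hcon
    have hΓ := inf_gam_eq_bot (𝒳 := (E.X n).gr) isHomogeneous_top fun g x _ hxg hx ↦ hcon g x hxg hx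
    rw [top_inf_eq] at hΓ
    have := IsSimpleModule.nontrivial (Localization.AtPrime m.toIdeal) (IsLocalRing.ResidueField
      (Localization.AtPrime m.toIdeal) →ₗ[Localization.AtPrime m.toIdeal]
        LocalizedModule m.toIdeal.primeCompl (E.X n).carrier)
    obtain ⟨φ, hφ⟩ := exists_ne (0 : IsLocalRing.ResidueField (Localization.AtPrime m.toIdeal)
      →ₗ[Localization.AtPrime m.toIdeal] LocalizedModule m.toIdeal.primeCompl (E.X n).carrier)
    refine hφ (LinearMap.ext fun c ↦ ?_)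
    obtain ⟨x, t, hx, hxt⟩ := Local.exists_rep (φ c) fun a ha ↦ Local.smul_hom_eq_zero φ c ha
    have hx0 : x = 0 := (Submodule.mem_bot R).1 (hΓ ▸ ⟨1, fun r hr ↦ hx r (by rwa [pow_one] at hr)⟩)
    rw [hxt, hx0, LocalizedModule.zero_mk, LinearMap.zero_apply]
  -- the hull inside the term
  letI := HullPrime.quotDecomp m
  haveI := HullPrime.quotGSMul m
  let μ : (R ⧸ m.toIdeal) →ₗ[R] (E.X n).carrier :=
    Submodule.liftQ m.toIdeal (LinearMap.toSpanSingleton R _ y)
      fun a ha ↦ by rw [LinearMap.mem_ker, LinearMap.toSpanSingleton_apply]; exact hy a ha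
  have hμ : ∀ r, μ (Ideal.Quotient.mk m.toIdeal r) = r • y := fun r ↦ rfl
  have hμdeg : GrLC.IsGrHomDeg (GrLC.quotGr 𝒜 m) (E.X n).gr μ g0 := by
    rintro g z ⟨r, hr, rfl⟩
    exact smul_mem_add 𝒜 (E.X n).gr hr hyg
  have hμinj : Function.Injective μ := by
    rw [injective_iff_map_eq_zero]
    intro z hz
    obtain ⟨r, rfl⟩ := Ideal.Quotient.mk_surjective z
    rw [hμ] at hz
    refine Ideal.Quotient.eq_zero_iff_mem.2 (le_of_ne_top hm (Ass.isHomogeneous_ann 𝒜 (E.X n).gr hyg)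
      (fun h ↦ hy0 ?_) ((Submodule.mem_annihilator_span_singleton y r).2 hz))
    have := (Submodule.mem_annihilator_span_singleton y (1 : R)).1 (h ▸ Submodule.mem_top)
    rwa [one_smul] at this
  obtain ⟨ψ, hψdeg, hψe⟩ := extend_deg (E.starInj n) he.grHom he.injective hμdeg
  have hψ : Function.Injective ψ := injective_of_isStarEss 𝒜 he.toIsStarEss (by rw [hψe]; exact hμinj)
  letI := shiftDecomp 𝓔 (-g0)
  haveI := shiftGSMul 𝒜 𝓔 (-g0)
  have hψgr : GrLC.IsGrHom (shiftGr 𝓔 (-g0)) (E.X n).gr ψ := fun g x hx ↦ by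
    have := hψdeg (g + -g0) x hx
    rwa [neg_add_cancel_right] at this
  obtain ⟨r, hrdeg, hrψ⟩ := extend_deg he.starInj hψgr hψ
    (g := (LinearMap.id : E' →ₗ[R] E')) (d := -g0) fun g x hx ↦ hx
  have hrψ' : ∀ w, r (ψ w) = w := fun w ↦ LinearMap.congr_fun hrψ w
  have hker : (LinearMap.ker r).IsHomogeneous (E.X n).gr :=
    isHomogeneous_ker (𝒩 := shiftGr 𝓔 (-g0)) hrdeg
  have hrange : (LinearMap.range ψ).IsHomogeneous (E.X n).gr := isHomogeneous_range hψgr
  have hQ : LinearMap.ker r ⊓ GrLC.gam m.toIdeal (E.X n).carrier = ⊥ := by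
    refine inf_gam_eq_bot hker fun g z hz hzg hzm ↦ ?_
    obtain ⟨φy, hφy⟩ := exists_residue_hom y hy
    obtain ⟨φz, hφz⟩ := exists_residue_hom z hzm
    have hne0 : φy ≠ 0 := fun h ↦ hy0 (hom_eq_zero hm hyg (by rw [← hφy, h, LinearMap.zero_apply]))
    obtain ⟨c, hc⟩ := IsSimpleModule.toSpanSingleton_surjective (Localization.AtPrime m.toIdeal) hne0 φz
    obtain ⟨c0, s, hcs⟩ := IsLocalization.exists_mk'_eq m.toIdeal.primeCompl c
    have h1 : LocalizedModule.mk z (1 : m.toIdeal.primeCompl) = LocalizedModule.mk (c0 • y) s := by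
      rw [← hφz, ← hc, LinearMap.toSpanSingleton_apply, LinearMap.smul_apply, hφy, ← hcs,
        ← Localization.mk_eq_mk', LocalizedModule.mk_smul_mk, mul_one]
    obtain ⟨v, hv⟩ := LocalizedModule.mk_eq.1 h1
    have hzmem : ((v * s : m.toIdeal.primeCompl) : R) • z ∈ LinearMap.range ψ := by
      have : ((v * s : m.toIdeal.primeCompl) : R) • z = ((v : R) * c0) • ψ (e (Ideal.Quotient.mk _ 1)) := by
        rw [show ψ (e (Ideal.Quotient.mk _ 1)) = (1 : R) • y from LinearMap.congr_fun hψe _, one_smul,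
          Submonoid.coe_mul, mul_smul, mul_smul]
        simpa [Submonoid.smul_def] using hv
      rw [this]
      exact Submodule.smul_mem _ _ ⟨_, rfl⟩
    obtain ⟨w, rfl⟩ := mem_of_smul_mem hm hrange hzg (v * s).2 hzmem
    rw [LinearMap.mem_ker, hrψ'] at hz
    rw [hz, map_zero]
  -- cohomology is the torsion of the term
  have hrange' : ∀ w, ψ w ∈ GrLC.gam m.toIdeal (E.X n).carrier := fun w ↦
    Chain.map_mem_gam m.toIdeal ψ (by rw [HullPrime.gam_eq_top he.toIsStarEss]; trivial)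
  have hcocyc : ∀ x ∈ GrLC.gam m.toIdeal (E.X n).carrier, x ∈ E.cocyc m n := fun x hx ↦
    ⟨hx, LinearMap.mem_ker.2 ((Submodule.mem_bot R).1
      (hoff (n + 1) n.succ_ne_self ▸ Chain.map_mem_gam m.toIdeal (E.d n) hx))⟩
  have hcobdy : E.cobdy m n = ⊥ := by
    cases n with
    | zero => rfl
    | succ k =>
      show (GrLC.gam m.toIdeal (E.X k).carrier).map (E.d k) = ⊥
      rw [hoff k k.succ_ne_self.symm, Submodule.map_bot]
  let Φ₀ : E.cocyc m n →ₗ[R] E' := r.comp (E.cocyc m n).subtype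
  let Φ : E.H m n →ₗ[R] E' := Submodule.liftQ _ Φ₀ fun z hz ↦ by
    rw [Submodule.mem_comap, hcobdy, Submodule.mem_bot] at hz
    show r ((E.cocyc m n).subtype z) = 0
    rw [hz, map_zero]
  have hΦ : ∀ z, Φ (E.toH m n z) = r z.1 := fun z ↦ rfl
  have hbij : Function.Bijective Φ := by
    refine ⟨?_, fun w ↦ ⟨E.toH m n ⟨ψ w, hcocyc _ (hrange' w)⟩, (hΦ _).trans (hrψ' w)⟩⟩
    rw [injective_iff_map_eq_zero]
    intro x hx
    obtain ⟨z, rfl⟩ := Chain.toH_surjective m n x
    rw [hΦ] at hx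
    rw [show z = 0 from Subtype.ext ((Submodule.mem_bot R).1 (hQ ▸ ⟨hx, z.2.1⟩)), map_zero]
  refine ⟨-g0, (Chain.compareEquiv m I E n).trans (LinearEquiv.ofBijective Φ hbij), fun g x hx ↦ ?_⟩
  obtain ⟨z, hz, hzx⟩ := Chain.compareEquiv_grHom m I E n g x hx
  show Φ (Chain.compareEquiv m I E n x) ∈ 𝓔 (g + -g0)
  rw [show Chain.compareEquiv m I E n x = E.toH m n z from hzx.symm, hΦ]
  exact hrdeg g z.1 hz

end Main

end Groth.Agent.H19.Bass.Gorenstein
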