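import Groth.Agent.H19.Bass.Rel
import Mathlib.RingTheory.RegularLocalRing.Polynomial
import Mathlib.RingTheory.Ideal.Height
import Mathlib.RingTheory.DedekindDomain.Basic
import Mathlib.LinearAlgebra.FreeModule.PID

/-!
# The localization of a graded domain at a prime without homogeneous elements is regular
-/

set_option autoImplicit false
set_option linter.unusedSectionVars false
set_option linter.style.haveILetI false

universe u

open Groth.Agent.Lib.Graded Groth.Agent.Lib.Graded.Basic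
open Groth.Agent.H19.Bass.Rel

namespace Groth.Agent.H19.Bass.GradedField

variable {R : Type u} [CommRing R] [IsNoetherianRing R] {ι : Type} [AddCommGroup ι] [DecidableEq ι]
  [Module.Free ℤ ι] [Module.Finite ℤ ι] {𝒜 : ι → AddSubgroup R} [GradedRing 𝒜]
  {q : HomogeneousIdeal 𝒜} [hq : q.toIdeal.IsPrime] {p : Ideal R} [p.IsPrime]

/-- The map to the local ring of the quotient. -/
noncomputable abbrev ψ (q : HomogeneousIdeal 𝒜) (p : Ideal R) [p.IsPrime] :
    R →+* Localization.AtPrime p ⧸ ext q.toIdeal p :=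
  (Ideal.Quotient.mk _).comp (algebraMap R (Localization.AtPrime p))

/-- Quotients of homogeneous elements, with their degree. -/
def IsHom (q : HomogeneousIdeal 𝒜) (p : Ideal R) [p.IsPrime]
    (x : Localization.AtPrime p ⧸ ext q.toIdeal p) (g : ι) : Prop :=
  ∃ (i : ι) (a c : R), a ∈ 𝒜 (i + g) ∧ c ∈ 𝒜 i ∧ c ∉ q.toIdeal ∧ x * ψ q p c = ψ q p a

theorem isPrime_ext (hqp : q.toIdeal ≤ p) : (ext q.toIdeal p).IsPrime :=
  IsLocalization.isPrime_of_isPrime_disjoint p.primeCompl (Localization.AtPrime p) _ hq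
    (Set.disjoint_left.2 fun _ hx hx' ↦ hx (hqp hx'))

theorem ψ_eq_zero_iff (hqp : q.toIdeal ≤ p) {a : R} : ψ q p a = 0 ↔ a ∈ q.toIdeal := by
  rw [RingHom.comp_apply, Ideal.Quotient.eq_zero_iff_mem]
  have h : (ext q.toIdeal p).comap (algebraMap R (Localization.AtPrime p)) = q.toIdeal :=
    IsLocalization.under_map_of_isPrime_disjoint p.primeCompl (Localization.AtPrime p) hq
      (Set.disjoint_left.2 fun _ hx hx' ↦ hx (hqp hx'))
  exact (SetLike.ext_iff.1 h a)

theorem isUnit_ψ {a : R} (ha : a ∉ p) : IsUnit (ψ q p a) :=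
  (IsLocalization.map_units (Localization.AtPrime p) (⟨a, ha⟩ : p.primeCompl)).map (Ideal.Quotient.mk (ext q.toIdeal p))

theorem isHom_ψ {a : R} {g : ι} (ha : a ∈ 𝒜 g) : IsHom q p (ψ q p a) g :=
  ⟨0, a, 1, by rwa [zero_add], SetLike.one_mem_graded 𝒜,
    fun h ↦ hq.ne_top ((Ideal.eq_top_iff_one _).2 h), by rw [map_one, mul_one]⟩

theorem isHom_one : IsHom q p 1 0 := by
  simpa using isHom_ψ (q := q) (p := p) (SetLike.one_mem_graded 𝒜)

theorem isHom_zero (g : ι) : IsHom q p 0 g := by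
  simpa using isHom_ψ (q := q) (p := p) (zero_mem (𝒜 g))

theorem isHom_neg {x : Localization.AtPrime p ⧸ ext q.toIdeal p} {g : ι} (hx : IsHom q p x g) :
    IsHom q p (-x) g := by
  obtain ⟨i, a, c, ha, hc, hcq, h⟩ := hx
  exact ⟨i, -a, c, neg_mem ha, hc, hcq, by rw [map_neg]; exact (neg_mul x _).trans (congrArg Neg.neg h)⟩

theorem isHom_mul {x y : Localization.AtPrime p ⧸ ext q.toIdeal p} {g g' : ι} (hx : IsHom q p x g)
    (hy : IsHom q p y g') : IsHom q p (x * y) (g + g') := by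
  obtain ⟨i, a, c, ha, hc, hcq, h⟩ := hx
  obtain ⟨j, b, e, hb, he, heq, h'⟩ := hy
  refine ⟨i + j, a * b, c * e, ?_, SetLike.mul_mem_graded hc he,
    fun hm ↦ (hq.mem_or_mem hm).elim hcq heq, ?_⟩
  · rw [show i + j + (g + g') = i + g + (j + g') by abel]
    exact SetLike.mul_mem_graded ha hb
  · rw [map_mul, map_mul, mul_mul_mul_comm, h, h']

theorem isHom_add {x y : Localization.AtPrime p ⧸ ext q.toIdeal p} {g : ι} (hx : IsHom q p x g)
    (hy : IsHom q p y g) : IsHom q p (x + y) g := by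
  obtain ⟨i, a, c, ha, hc, hcq, h⟩ := hx
  obtain ⟨j, b, e, hb, he, heq, h'⟩ := hy
  refine ⟨i + j, a * e + c * b, c * e, add_mem ?_ ?_, SetLike.mul_mem_graded hc he,
    fun hm ↦ (hq.mem_or_mem hm).elim hcq heq, ?_⟩
  · rw [show i + j + g = i + g + j by abel]
    exact SetLike.mul_mem_graded ha he
  · rw [add_assoc]
    exact SetLike.mul_mem_graded hc hb
  · rw [map_add, map_mul, map_mul, map_mul, ← h, ← h']
    ring

variable (hqp : q.toIdeal ≤ p) (hcore : ∀ (d : ι), ∀ a ∈ 𝒜 d, a ∉ q.toIdeal → a ∉ p)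
include hqp hcore

theorem exists_inv {x : Localization.AtPrime p ⧸ ext q.toIdeal p} {g : ι} (hx : IsHom q p x g)
    (hx0 : x ≠ 0) : ∃ y, x * y = 1 ∧ IsHom q p y (-g) := by
  obtain ⟨i, a, c, ha, hc, hcq, h⟩ := hx
  have hu := isUnit_ψ (q := q) (hcore _ _ hc hcq)
  have haq : a ∉ q.toIdeal := fun haq ↦ hx0 (hu.mul_left_eq_zero.1
    (h.trans ((ψ_eq_zero_iff hqp).2 haq)))
  have hua := isUnit_ψ (q := q) (hcore _ _ ha haq)
  refine ⟨ψ q p c * ↑hua.unit⁻¹, by rw [← mul_assoc, h]; exact hua.mul_val_inv, i + g, c, a,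
    by rwa [add_neg_cancel_right], ha, haq, ?_⟩
  rw [mul_assoc, IsUnit.val_inv_mul, mul_one]

theorem eq_zero_of_sum {κ : Type*} (s : Finset κ) (x : κ → Localization.AtPrime p ⧸ ext q.toIdeal p)
    (g : κ → ι) (hg : Set.InjOn g s) (hx : ∀ k ∈ s, IsHom q p (x k) (g k))
    (h0 : ∑ k ∈ s, x k = 0) : ∀ k ∈ s, x k = 0 := by
  classical
  choose! i a c ha hc hcq h using hx
  let D := ∑ k ∈ s, i k
  let y : κ → R := fun k ↦ a k * ∏ l ∈ s.erase k, c l
  have hy : ∀ k ∈ s, y k ∈ 𝒜 (g k + D) ∧ ψ q p (y k) = x k * ψ q p (∏ l ∈ s, c l) := by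
    intro k hk
    refine ⟨?_, ?_⟩
    · rw [show g k + D = i k + g k + ∑ l ∈ s.erase k, i l by
        simp only [D, ← Finset.add_sum_erase s i hk]; abel]
      exact SetLike.mul_mem_graded (ha k hk)
        (SetLike.prod_mem_graded 𝒜 i c fun l hl ↦ hc l (Finset.mem_of_mem_erase hl))
    · rw [map_mul, ← h k hk, mul_assoc, ← map_mul, Finset.mul_prod_erase s c hk]
  have hsum : ∑ k ∈ s, y k ∈ q.toIdeal := by
    rw [← ψ_eq_zero_iff hqp, map_sum, Finset.sum_congr rfl fun k hk ↦ (hy k hk).2, ← Finset.sum_mul,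
      h0, zero_mul]
  intro k hk
  have h1 : proj 𝒜 (g k + D) (∑ l ∈ s, y l) ∈ q.toIdeal := q.isHomogeneous _ hsum
  rw [map_sum, Finset.sum_eq_single k (fun l hl hlk ↦ proj_of_mem_ne 𝒜 (hy l hl).1 fun e ↦
    hlk (hg hl hk (add_right_cancel e))) (fun h' ↦ absurd hk h'), proj_of_mem 𝒜 (hy k hk).1,
    ← ψ_eq_zero_iff hqp, (hy k hk).2] at h1
  refine (IsUnit.mul_left_eq_zero ?_).1 h1
  rw [map_prod]
  exact Submonoid.prod_mem (IsUnit.submonoid _) fun l hl ↦ isUnit_ψ (hcore _ _ (hc l hl) (hcq l hl))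

/-- The local ring of a graded domain at a prime containing no homogeneous element is regular. -/
theorem isRegularLocalRing : IsRegularLocalRing (Localization.AtPrime p ⧸ ext q.toIdeal p) := by
  classical
  have := isPrime_ext hqp
  let B := Localization.AtPrime p ⧸ ext q.toIdeal p
  have hne : Nontrivial B := Ideal.Quotient.nontrivial_iff.2 (isPrime_ext hqp).ne_top
  have : IsLocalRing B := IsLocalRing.of_surjective' _ Ideal.Quotient.mk_surjective
  let K : Subring B :=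
    { carrier := {x | IsHom q p x 0}
      mul_mem' := fun hx hy ↦ by simpa using isHom_mul hx hy
      one_mem' := isHom_one
      add_mem' := fun hx hy ↦ isHom_add hx hy
      zero_mem' := isHom_zero 0
      neg_mem' := fun hx ↦ isHom_neg hx }
  have hK : IsField K :=
    { exists_pair_ne := ⟨0, 1, zero_ne_one⟩
      mul_comm := mul_comm
      mul_inv_cancel := fun {x} hx ↦ by
        obtain ⟨y, hy, hy'⟩ := exists_inv hqp hcore x.2 fun h ↦ hx (Subtype.ext h)
        rw [neg_zero] at hy'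
        exact ⟨⟨y, hy'⟩, Subtype.ext hy⟩ }
  let G : AddSubgroup ι :=
    { carrier := {g | ∃ x : B, x ≠ 0 ∧ IsHom q p x g}
      add_mem' := fun ⟨x, hx, hxg⟩ ⟨y, hy, hyg⟩ ↦ ⟨x * y, mul_ne_zero hx hy, isHom_mul hxg hyg⟩
      zero_mem' := ⟨1, one_ne_zero, isHom_one⟩
      neg_mem' := fun ⟨x, hx, hxg⟩ ↦ by
        obtain ⟨y, hy, hy'⟩ := exists_inv hqp hcore hxg hx
        exact ⟨y, right_ne_zero_of_mul_eq_one hy, hy'⟩ }
  obtain ⟨n, b⟩ := Submodule.basisOfPid (Module.Free.chooseBasis ℤ ι) (AddSubgroup.toIntSubmodule G)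
  have hb : ∀ k, ∃ t : Bˣ, IsHom q p t ((b k : _) : ι) := fun k ↦ by
    obtain ⟨x, hx, hxg⟩ : ∃ x : B, x ≠ 0 ∧ IsHom q p x ((b k : _) : ι) := (b k).2
    obtain ⟨y, hy, -⟩ := exists_inv hqp hcore hxg hx
    exact ⟨Units.mkOfMulEqOne x y hy, hxg⟩
  choose t ht using hb
  have hzpow : ∀ {x : Bˣ} {g : ι}, IsHom q p x g → ∀ m : ℤ, IsHom q p ↑(x ^ m) (m • g) := by
    intro x g hx m
    have hinv : IsHom q p ↑x⁻¹ (-g) := by
      obtain ⟨y, hy, hy'⟩ := exists_inv hqp hcore hx x.ne_zero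
      rwa [Units.inv_eq_of_mul_eq_one_right hy]
    induction m using Int.induction_on with
    | zero => simpa using isHom_one
    | succ k ih => rw [zpow_add_one, Units.val_mul, add_zsmul, one_zsmul]; exact isHom_mul ih hx
    | pred k ih =>
      rw [zpow_sub_one, Units.val_mul, sub_zsmul, one_zsmul]
      exact isHom_mul ih hinv
  let T : (Fin n → ℤ) → Bˣ := fun z ↦ ∏ k, t k ^ z k
  have hT : ∀ z, IsHom q p ↑(T z) ↑(∑ k, z k • b k) := fun z ↦ by
    have hs : ∀ s : Finset (Fin n), IsHom q p ↑(∏ k ∈ s, t k ^ z k) ↑(∑ k ∈ s, z k • b k) := by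
      intro s
      induction s using Finset.induction_on with
      | empty => simpa using isHom_one
      | insert k s hk ih =>
        rw [Finset.prod_insert hk, Finset.sum_insert hk, Units.val_mul, Submodule.coe_add,
          Submodule.coe_smul]
        exact isHom_mul (hzpow (ht k) _) ih
    exact hs Finset.univ
  let φ : MvPolynomial (Fin n) K →+* B := MvPolynomial.eval₂Hom K.subtype fun k ↦ (t k : B)
  have hmono : ∀ (m : Fin n →₀ ℕ) (k : K),
      φ (MvPolynomial.monomial m k) = (k : B) * ↑(T fun i ↦ (m i : ℤ)) := fun m k ↦ by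
    rw [MvPolynomial.eval₂Hom_monomial, Finsupp.prod_fintype _ _ (fun _ ↦ pow_zero _)]
    simp [T]
  have hinj : Function.Injective φ := by
    rw [injective_iff_map_eq_zero]
    intro P hP
    rw [MvPolynomial.as_sum P, map_sum] at hP
    have h := eq_zero_of_sum hqp hcore P.support _
      (fun m ↦ ↑(∑ k, (m k : ℤ) • b k)) (fun m _ m' _ e ↦ ?_) (fun m _ ↦ ?_) hP
    · refine MvPolynomial.ext _ _ fun m ↦ ?_
      by_contra hm
      rw [MvPolynomial.coeff_zero] at hm
      have := h m (MvPolynomial.mem_support_iff.2 hm)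
      rw [hmono, Units.mul_left_eq_zero] at this
      exact hm (Subtype.ext this)
    · ext k
      have e' := congrArg (fun v ↦ b.repr v k) (Subtype.ext e)
      simp [Finsupp.single_apply] at e'
      exact e'
    · rw [hmono, ← zero_add (↑(∑ k, (m k : ℤ) • b k) : ι)]
      exact isHom_mul (P.coeff m).2 (hT _)
  have hcov : ∀ r : R, ∃ N : Fin n → ℕ, ↑(T fun k ↦ (N k : ℤ)) * ψ q p r ∈ φ.range := by
    have hTN : ∀ N : Fin n → ℕ, ↑(T fun k ↦ (N k : ℤ)) ∈ φ.range := fun N ↦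
      ⟨MvPolynomial.monomial (Finsupp.equivFunOnFinite.symm N) 1, by rw [hmono]; simp⟩
    intro r
    induction r using induction_hom 𝒜 with
    | zero => exact ⟨0, by rw [map_zero, mul_zero]; exact zero_mem _⟩
    | hom g a ha =>
      by_cases haq : a ∈ q.toIdeal
      · exact ⟨0, by rw [(ψ_eq_zero_iff hqp).2 haq, mul_zero]; exact zero_mem _⟩
      have hgG : g ∈ AddSubgroup.toIntSubmodule G :=
        ⟨ψ q p a, fun h ↦ haq ((ψ_eq_zero_iff hqp).1 h), isHom_ψ ha⟩
      let z : Fin n → ℤ := fun k ↦ b.repr ⟨g, hgG⟩ k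
      have hz : (↑(∑ k, z k • b k) : ι) = g := congrArg Subtype.val (b.sum_repr ⟨g, hgG⟩)
      have hl : ψ q p a * ↑(T (-z)) ∈ K := by
        have h := isHom_mul (q := q) (p := p) (isHom_ψ ha) (hT (-z))
        rwa [show (↑(∑ k, (-z) k • b k) : ι) = -g by
          simp only [Pi.neg_apply, neg_smul, Finset.sum_neg_distrib, Submodule.coe_neg, hz],
          add_neg_cancel] at h
      refine ⟨fun k ↦ (-z k).toNat, ?_⟩
      have e : (↑(T fun k ↦ ((-z k).toNat : ℤ)) : B) * ψ q p a =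
          (ψ q p a * ↑(T (-z))) * ↑(T fun k ↦ ((z k).toNat : ℤ)) := by
        rw [mul_comm, mul_assoc, ← Units.val_mul]
        congr 2
        rw [← Finset.prod_mul_distrib]
        refine Finset.prod_congr rfl fun k _ ↦ ?_
        rw [← zpow_add, Pi.neg_apply]
        congr 1
        dsimp only
        omega
      rw [e]
      exact Subring.mul_mem _ ⟨MvPolynomial.C ⟨_, hl⟩, by simp [φ]⟩ (hTN _)
    | add r s hr hs =>
      obtain ⟨N, hN⟩ := hr
      obtain ⟨M, hM⟩ := hs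
      refine ⟨N + M, ?_⟩
      have e : (↑(T fun k ↦ ((N + M) k : ℤ)) : B) =
          ↑(T fun k ↦ (N k : ℤ)) * ↑(T fun k ↦ (M k : ℤ)) := by
        rw [← Units.val_mul]
        congr 1
        rw [← Finset.prod_mul_distrib]
        exact Finset.prod_congr rfl fun k _ ↦ by simp only [Pi.add_apply, Nat.cast_add, zpow_add]
      rw [map_add, mul_add, e]
      refine add_mem ?_ ?_
      · rw [mul_comm (↑(T fun k ↦ (N k : ℤ)) : B), mul_assoc]
        exact Subring.mul_mem _ (hTN M) hN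
      · rw [mul_assoc]
        exact Subring.mul_mem _ (hTN N) hM
  letI : Algebra (MvPolynomial (Fin n) K) B := φ.toAlgebra
  let P : Ideal (MvPolynomial (Fin n) K) := (IsLocalRing.maximalIdeal B).comap φ
  have hunit : ∀ v, v ∉ P ↔ IsUnit (φ v) := fun v ↦ by
    rw [Ideal.mem_comap, IsLocalRing.notMem_maximalIdeal]
  have : IsLocalization.AtPrime B P := by
    refine (isLocalization_iff _ _).2
      ⟨fun v ↦ (hunit v).1 v.2, fun x ↦ ?_, fun {x y} h ↦ ⟨1, by rw [hinj h]⟩⟩
    obtain ⟨x, rfl⟩ := Ideal.Quotient.mk_surjective x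
    obtain ⟨⟨r, s⟩, hrs⟩ := IsLocalization.surj p.primeCompl x
    obtain ⟨N, u, hu⟩ := hcov r
    obtain ⟨M, v, hv⟩ := hcov s
    let XN : MvPolynomial (Fin n) K := MvPolynomial.monomial (Finsupp.equivFunOnFinite.symm N) 1
    let XM : MvPolynomial (Fin n) K := MvPolynomial.monomial (Finsupp.equivFunOnFinite.symm M) 1
    have hXN : φ XN = ↑(T fun k ↦ (N k : ℤ)) := by rw [hmono]; simp
    have hXM : φ XM = ↑(T fun k ↦ (M k : ℤ)) := by rw [hmono]; simp
    refine ⟨⟨XM * u, ⟨XN * v, (hunit _).2 ?_⟩⟩, ?_⟩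
    · rw [map_mul, hXN, hv]
      exact (Units.isUnit _).mul ((Units.isUnit _).mul (isUnit_ψ s.2))
    · change Ideal.Quotient.mk _ x * φ (XN * v) = φ (XM * u)
      have h2 : Ideal.Quotient.mk (ext q.toIdeal p) x * ψ q p s = ψ q p r := by
        rw [RingHom.comp_apply, RingHom.comp_apply, ← map_mul, hrs]
      rw [map_mul, map_mul, hXN, hXM, hu, hv, ← h2]
      ring
  have : IsRegularRing K := by
    letI := hK.toField
    infer_instance
  have : IsRegularLocalRing (Localization.AtPrime P) := inferInstance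
  exact IsRegularLocalRing.of_ringEquiv (R := Localization.AtPrime P) (R' := B)
    (IsLocalization.algEquiv P.primeCompl (Localization.AtPrime P) B).toRingEquiv

/-- Its dimension is the height of the prime in the graded domain. -/
theorem ringKrullDim_eq {d : ℕ} (hd : (p.map (Ideal.Quotient.mk q.toIdeal)).height = d) :
    ringKrullDim (Localization.AtPrime p ⧸ ext q.toIdeal p) = d := by
  let B := Localization.AtPrime p ⧸ ext q.toIdeal p
  have := isPrime_ext hqp
  have hp : (p.map (Ideal.Quotient.mk q.toIdeal)).IsPrime :=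
    Ideal.map_isPrime_of_surjective Ideal.Quotient.mk_surjective (by rwa [Ideal.mk_ker])
  have hmem : ∀ r : R, Ideal.Quotient.mk q.toIdeal r ∈ p.map (Ideal.Quotient.mk q.toIdeal) ↔ r ∈ p :=
    fun r ↦ Ideal.mem_quotient_iff_mem hqp
  letI : Algebra (R ⧸ q.toIdeal) B :=
    (Ideal.Quotient.lift q.toIdeal (ψ q p) fun a ha ↦ (ψ_eq_zero_iff hqp).2 ha).toAlgebra
  have : IsLocalization.AtPrime B (p.map (Ideal.Quotient.mk q.toIdeal)) := by
    refine (isLocalization_iff _ _).2 ⟨fun v ↦ ?_, fun x ↦ ?_, fun {x y} h ↦ ⟨1, ?_⟩⟩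
    · obtain ⟨v, hv⟩ := v
      obtain ⟨r, rfl⟩ := Ideal.Quotient.mk_surjective v
      exact isUnit_ψ fun h ↦ hv ((hmem r).2 h)
    · obtain ⟨x, rfl⟩ := Ideal.Quotient.mk_surjective x
      obtain ⟨⟨r, s⟩, hrs⟩ := IsLocalization.surj p.primeCompl x
      refine ⟨⟨Ideal.Quotient.mk _ r, ⟨Ideal.Quotient.mk _ s, fun h ↦ s.2 ((hmem _).1 h)⟩⟩, ?_⟩
      show Ideal.Quotient.mk _ x * ψ q p s = ψ q p r
      rw [RingHom.comp_apply, RingHom.comp_apply, ← map_mul, hrs]
    · obtain ⟨x, rfl⟩ := Ideal.Quotient.mk_surjective x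
      obtain ⟨y, rfl⟩ := Ideal.Quotient.mk_surjective y
      rw [OneMemClass.coe_one, one_mul, one_mul, ← sub_eq_zero, ← map_sub,
        Ideal.Quotient.eq_zero_iff_mem, ← ψ_eq_zero_iff hqp, map_sub, sub_eq_zero]
      exact h
  rw [IsLocalization.AtPrime.ringKrullDim_eq_height (p.map (Ideal.Quotient.mk q.toIdeal)) B, hd]
  rfl

end Groth.Agent.H19.Bass.GradedField
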