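import Groth.Agent.Lib.LCFin.ExtLoc
import Groth.Agent.Lib.LCFin.Seq
import Mathlib.RingTheory.Length

/-!
# `Ext` through short exact sequences with acyclic middle terms and vanishing maps on socles
-/

set_option autoImplicit false

universe u

open CategoryTheory
open Groth.Agent.Lib.LocalCoh Groth.Agent.Lib.LCFin.Seq

namespace Groth.Agent.H19.Bass.Homological

variable {A : Type u} [CommRing A] {k : Type u} [AddCommGroup k] [Module A k]

/-- Short exact sequences `C n → X n → C (n + 1)` with `Ext^{>0}(k, X n) = 0` and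
`Hom(k, X n) → Hom(k, C (n + 1))` zero compute `Ext^j(k, C n)` as `Hom(k, X (n + j))`. -/
theorem nonempty_equiv {C X : ℕ → Type u} [∀ n, AddCommGroup (C n)] [∀ n, Module A (C n)]
    [∀ n, AddCommGroup (X n)] [∀ n, Module A (X n)] (ι : ∀ n, C n →ₗ[A] X n)
    (π : ∀ n, X n →ₗ[A] C (n + 1)) (hι : ∀ n, Function.Injective (ι n))
    (hπ : ∀ n, Function.Surjective (π n)) (hex : ∀ n, Function.Exact (ι n) (π n))
    (hExt : ∀ n i, Subsingleton (Abelian.Ext.{u} (ModuleCat.of A k) (ModuleCat.of A (X n)) (i + 1)))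
    (hsoc : ∀ n (φ : k →ₗ[A] X n), (π n).comp φ = 0) :
    ∀ j n, Nonempty (Abelian.Ext.{u} (ModuleCat.of A k) (ModuleCat.of A (C n)) j ≃ₗ[A]
      (k →ₗ[A] X (n + j))) := by
  intro j
  induction j with
  | zero =>
    intro n
    refine ⟨(Lib.LCFin.ExtLoc.homEquiv k (C n)).trans (LinearEquiv.ofBijective
      (LinearMap.llcomp A k (C n) (X n) (ι n)) ⟨?_, fun φ ↦ ?_⟩)⟩
    · intro a b h
      exact LinearMap.ext fun c ↦ hι n (LinearMap.congr_fun h c)
    · have h0 : ∀ c, φ c ∈ LinearMap.range (ι n) := fun c ↦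
        (hex n (φ c)).1 (LinearMap.congr_fun (hsoc n φ) c)
      refine ⟨(LinearEquiv.ofInjective (ι n) (hι n)).symm.toLinearMap.comp
        (φ.codRestrict _ h0), LinearMap.ext fun c ↦ ?_⟩
      exact congrArg Subtype.val
        ((LinearEquiv.ofInjective (ι n) (hι n)).apply_symm_apply ⟨φ c, h0 c⟩)
  | succ j ih =>
    intro n
    have hS := ses_shortExact (hι n) (hπ n) (hex n)
    let δ : Abelian.Ext.{u} (ModuleCat.of A k) (ModuleCat.of A (C (n + 1))) j →ₗ[A]
        Abelian.Ext.{u} (ModuleCat.of A k) (ModuleCat.of A (C n)) (j + 1) :=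
      { toFun := fun x ↦ x.comp hS.extClass rfl
        map_add' := fun _ _ ↦ Abelian.Ext.add_comp ..
        map_smul' := fun _ _ ↦ Abelian.Ext.smul_comp .. }
    have hsurj : Function.Surjective δ := fun x ↦
      Abelian.Ext.covariant_sequence_exact₁ _ hS x ((hExt n j).elim _ 0 ▸ rfl) rfl
    have hzero : ∀ x₂ : Abelian.Ext.{u} (ModuleCat.of A k) (ModuleCat.of A (X n)) j,
        x₂.comp (Abelian.Ext.mk₀ (ModuleCat.ofHom (π n))) (add_zero j) = 0 := by
      intro x₂
      cases j with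
      | zero =>
        obtain ⟨g, rfl⟩ := Abelian.Ext.addEquiv₀.symm.surjective x₂
        rw [Abelian.Ext.addEquiv₀_symm_apply, Abelian.Ext.mk₀_comp_mk₀,
          show g ≫ ModuleCat.ofHom (π n) = 0 from ModuleCat.hom_ext (hsoc n g.hom),
          Abelian.Ext.mk₀_zero]
      | succ j =>
        have := hExt n j
        rw [Subsingleton.elim x₂ 0, Abelian.Ext.zero_comp]
    have hinj : Function.Injective δ := by
      rw [injective_iff_map_eq_zero]
      intro x hx
      obtain ⟨x₂, rfl⟩ := Abelian.Ext.covariant_sequence_exact₃ _ hS x rfl hx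
      exact hzero x₂
    obtain ⟨e⟩ := ih (n + 1)
    rw [show n + (j + 1) = n + 1 + j by omega]
    exact ⟨(LinearEquiv.ofBijective δ ⟨hinj, hsurj⟩).symm.trans e⟩

end Groth.Agent.H19.Bass.Homological
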