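import Groth.Agent.H19.Bass.Core
import Groth.Agent.H22.GlobalDim
import Groth.Agent.Lib.Graded.Dim
import Mathlib.RingTheory.Ideal.AssociatedPrime.Basic

/-!
# Injective dimension of *injective modules over ℤ-graded rings
-/

set_option autoImplicit false
set_option linter.unusedSectionVars false

universe u

open CategoryTheory Abelian
open Groth.Agent.Lib

namespace Groth.Agent.H19.Bass.InjCrit

section Crit

variable {R : Type u} [CommRing R] [IsNoetherianRing R] (M : Type u) [AddCommGroup M] [Module R M]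

/-- `Ext` out of cyclic modules vanishes when it does so locally out of residue fields. -/
theorem subsingleton_ext_of_local (i : ℕ)
    (h : ∀ (P : Ideal R) [P.IsPrime], Subsingleton (Ext.{u}
      (ModuleCat.of (Localization.AtPrime P) (IsLocalRing.ResidueField (Localization.AtPrime P)))
      (ModuleCat.of (Localization.AtPrime P) (LocalizedModule P.primeCompl M)) i))
    (J : Ideal R) : Subsingleton (Ext.{u} (ModuleCat.of R (R ⧸ J)) (ModuleCat.of R M) i) := by
  induction J using WellFoundedGT.induction with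
  | _ J ih =>
    rcases eq_or_ne J ⊤ with rfl | htop
    · have : Subsingleton (R ⧸ (⊤ : Ideal R)) := Submodule.Quotient.subsingleton_iff.mpr rfl
      exact subsingleton_of_forall_eq 0 fun α => by
        simpa using Depth.Ext.smul_eq_zero_of_annihilator_src (r := (1 : R))
          (Module.mem_annihilator.mpr fun x => Subsingleton.elim _ _) α
    by_cases hp : J.IsPrime
    · refine subsingleton_of_forall_eq 0 fun α ↦ ?_
      obtain ⟨e⟩ := LCFin.ExtLoc.nonempty_equiv J.primeCompl M i (R ⧸ J)
      obtain ⟨d⟩ := Local.nonempty_residue_equiv J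
      have hz : ∀ y : Ext.{u}
          (ModuleCat.of (Localization.AtPrime J) (LocalizedModule J.primeCompl (R ⧸ J)))
          (ModuleCat.of (Localization.AtPrime J) (LocalizedModule J.primeCompl M)) i, y = 0 := by
        intro y
        rw [← Ext.mk₀_id_comp y, ← d.toModuleIso.hom_inv_id, ← Ext.mk₀_comp_mk₀,
          Ext.comp_assoc_of_second_deg_zero, (h J).elim ((Ext.mk₀ d.toModuleIso.inv).comp y _) 0,
          Ext.comp_zero]
      obtain ⟨⟨u, hu⟩, hu0⟩ := (Local.mk_eq_zero J.primeCompl α 1).1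
        (e.injective ((hz _).trans (map_zero e).symm))
      replace hu0 : u • α = 0 := hu0
      have hJlt : J < J ⊔ Ideal.span {u} := lt_of_le_of_ne le_sup_left fun he ↦
        hu (he ▸ Submodule.mem_sup_right (Ideal.mem_span_singleton_self u))
      let g : (R ⧸ J) →ₗ[R] R ⧸ (J ⊔ Ideal.span {u}) := Submodule.factor le_sup_left
      let f : (R ⧸ J) →ₗ[R] R ⧸ J := u • LinearMap.id
      have hgmk : ∀ y : R, g (Ideal.Quotient.mk J y) = Ideal.Quotient.mk _ y := fun _ ↦ rfl
      have hfmk : ∀ y : R, f (Ideal.Quotient.mk J y) = Ideal.Quotient.mk J (u * y) := fun y ↦ by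
        show u • Ideal.Quotient.mk J y = _
        rw [Algebra.smul_def, Ideal.Quotient.algebraMap_eq, ← map_mul]
      have hf : Function.Injective f := (injective_iff_map_eq_zero f).mpr fun y hy ↦ by
        obtain ⟨y, rfl⟩ := Ideal.Quotient.mk_surjective y
        rw [hfmk, Ideal.Quotient.eq_zero_iff_mem] at hy
        exact Ideal.Quotient.eq_zero_iff_mem.mpr ((hp.mem_or_mem hy).resolve_left hu)
      have hfg : Function.Exact f g := by
        intro y
        obtain ⟨y, rfl⟩ := Ideal.Quotient.mk_surjective y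
        rw [hgmk, Ideal.Quotient.eq_zero_iff_mem]
        constructor
        · intro hy
          obtain ⟨a, ha, b, hb, rfl⟩ := Submodule.mem_sup.mp hy
          obtain ⟨c, rfl⟩ := Ideal.mem_span_singleton'.mp hb
          refine ⟨Ideal.Quotient.mk J c, ?_⟩
          rw [hfmk, map_add, Ideal.Quotient.eq_zero_iff_mem.mpr ha, zero_add, mul_comm]
        · rintro ⟨z, hz⟩
          obtain ⟨z, rfl⟩ := Ideal.Quotient.mk_surjective z
          rw [hfmk, Ideal.Quotient.mk_eq_mk_iff_sub_mem] at hz
          have := sub_mem (Submodule.mem_sup_right (Ideal.mul_mem_right z _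
            (Ideal.mem_span_singleton_self u))) (Submodule.mem_sup_left (S := J) hz)
          simpa using this
      let S : ShortComplex (ModuleCat.{u} R) :=
        ModuleCat.shortComplexOfCompEqZero f g hfg.linearMap_comp_eq_zero
      have hS : S.ShortExact := ModuleCat.shortComplex_shortExact S hfg hf
        (Submodule.factor_surjective le_sup_left)
      have h1 : (Ext.mk₀ S.f).comp α (zero_add i) = 0 := by
        rw [show S.f = u • 𝟙 (ModuleCat.of R (R ⧸ J)) from rfl, Ext.mk₀_smul, Ext.smul_comp,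
          Ext.mk₀_id_comp]
        exact hu0
      obtain ⟨x₃, rfl⟩ := Ext.contravariant_sequence_exact₂ hS _ α h1
      rw [show x₃ = 0 from (ih _ hJlt).elim _ _, Ext.comp_zero]
    · obtain ⟨a, b, hab, ha, hb⟩ : ∃ a b, a * b ∈ J ∧ a ∉ J ∧ b ∉ J := by
        rw [Ideal.isPrime_iff] at hp
        push Not at hp
        exact hp htop
      let K : Ideal R := Submodule.comap (LinearMap.lsmul R R a) (J : Submodule R R)
      have hmemK : ∀ r, r ∈ K ↔ a * r ∈ J := fun _ => Iff.rfl
      have hJK : J < K := lt_of_le_of_ne (fun r hr => (hmemK r).mpr (J.mul_mem_left a hr))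
        fun he => hb (he ▸ (hmemK b).mpr hab)
      have hJa : J < J ⊔ Ideal.span {a} := lt_of_le_of_ne le_sup_left fun he =>
        ha (he ▸ Submodule.mem_sup_right (Ideal.mem_span_singleton_self a))
      let g : (R ⧸ J) →ₗ[R] R ⧸ (J ⊔ Ideal.span {a}) := Submodule.factor le_sup_left
      let f : (R ⧸ K) →ₗ[R] R ⧸ J := K.mapQ J (LinearMap.lsmul R R a) le_rfl
      have hgmk : ∀ y : R, g (Ideal.Quotient.mk J y) = Ideal.Quotient.mk _ y := fun _ ↦ rfl
      have hfmk : ∀ y : R, f (Ideal.Quotient.mk K y) = Ideal.Quotient.mk J (a * y) := fun _ => rfl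
      have hf : Function.Injective f := (injective_iff_map_eq_zero f).mpr fun y hy => by
        obtain ⟨y, rfl⟩ := Ideal.Quotient.mk_surjective y
        rw [hfmk, Ideal.Quotient.eq_zero_iff_mem] at hy
        exact Ideal.Quotient.eq_zero_iff_mem.mpr ((hmemK y).mpr hy)
      have hfg : Function.Exact f g := by
        intro y
        obtain ⟨y, rfl⟩ := Ideal.Quotient.mk_surjective y
        rw [hgmk, Ideal.Quotient.eq_zero_iff_mem]
        constructor
        · intro hy
          obtain ⟨a', ha', b', hb', rfl⟩ := Submodule.mem_sup.mp hy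
          obtain ⟨c, rfl⟩ := Ideal.mem_span_singleton'.mp hb'
          refine ⟨Ideal.Quotient.mk K c, ?_⟩
          rw [hfmk, map_add, Ideal.Quotient.eq_zero_iff_mem.mpr ha', zero_add, mul_comm]
        · rintro ⟨z, hz⟩
          obtain ⟨z, rfl⟩ := Ideal.Quotient.mk_surjective z
          rw [hfmk, Ideal.Quotient.mk_eq_mk_iff_sub_mem] at hz
          have := sub_mem (Submodule.mem_sup_right (Ideal.mul_mem_right z _
            (Ideal.mem_span_singleton_self a))) (Submodule.mem_sup_left (S := J) hz)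
          simpa using this
      let S : ShortComplex (ModuleCat.{u} R) :=
        ModuleCat.shortComplexOfCompEqZero f g hfg.linearMap_comp_eq_zero
      exact Depth.Ext.subsingleton_src_X₂ _
        (ModuleCat.shortComplex_shortExact S hfg hf (Submodule.factor_surjective le_sup_left))
        (ih _ hJK) (ih _ hJa)

variable {M}

/-- A Bass number vanishes exactly when the local `Ext` does. -/
theorem bassNum_eq_zero_iff {P : Ideal R} [P.IsPrime] {i : ℕ} : GrLC.bassNum P M i = 0 ↔
    Subsingleton (Ext.{u}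
      (ModuleCat.of (Localization.AtPrime P) (IsLocalRing.ResidueField (Localization.AtPrime P)))
      (ModuleCat.of (Localization.AtPrime P) (LocalizedModule P.primeCompl M)) i) :=
  Module.length_eq_zero_iff

/-- Injectivity is vanishing of the first Bass numbers. -/
theorem injective_iff : Module.Injective R M ↔
    ∀ (P : Ideal R) [P.IsPrime], GrLC.bassNum P M 1 = 0 := by
  constructor
  · intro hM P _
    rw [bassNum_eq_zero_iff]
    refine Local.ext_subsingleton_localized P M 1 ?_
    have : CategoryTheory.Injective (ModuleCat.of R M) := (Module.injective_iff_injective_object R M).1 hM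
    exact subsingleton_of_forall_eq 0 fun x ↦ Ext.eq_zero_of_injective x
  · intro h
    have := H22.GlobalDim.injective_of_ext_one (ModuleCat.of R M)
      (subsingleton_ext_of_local M 1 fun P _ ↦ bassNum_eq_zero_iff.1 (h P))
    exact (Module.injective_iff_injective_object R M).2 this

/-- The associated primes are where the zeroth Bass number does not vanish. -/
theorem bassNum_zero_ne_zero_iff {P : Ideal R} [P.IsPrime] :
    GrLC.bassNum P M 0 ≠ 0 ↔ P ∈ associatedPrimes R M := by
  have e := LCFin.ExtLoc.homEquiv (R := Localization.AtPrime P)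
    (IsLocalRing.ResidueField (Localization.AtPrime P)) (LocalizedModule P.primeCompl M)
  rw [Ne, bassNum_eq_zero_iff, e.toEquiv.subsingleton_congr]
  rw [AssociatedPrimes.mem_iff, isAssociatedPrime_iff]
  constructor
  · intro h
    rw [not_subsingleton_iff_nontrivial] at h
    obtain ⟨φ, hφ⟩ := exists_ne (0 : IsLocalRing.ResidueField (Localization.AtPrime P) →ₗ[
      Localization.AtPrime P] LocalizedModule P.primeCompl M)
    obtain ⟨c, hc⟩ := DFunLike.ne_iff.1 hφ
    obtain ⟨y, t, hy, he⟩ := Local.exists_rep (φ c) fun a ha ↦ Local.smul_hom_eq_zero φ c ha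
    refine ⟨inferInstance, y, le_antisymm (fun a ha ↦ ?_) fun a ha ↦ ?_⟩
    · simp [Submodule.mem_colon_singleton, hy a ha]
    · rw [Submodule.mem_colon_singleton, Submodule.mem_bot] at ha
      by_contra haP
      exact hc (he.trans ((Local.mk_eq_zero _ _ _).2 ⟨⟨a, haP⟩, ha⟩))
  · rintro ⟨-, x, hx⟩ h
    have hmem : ∀ a, a ∈ P ↔ a • x = 0 := fun a ↦ by
      rw [hx, Submodule.mem_colon_singleton, Submodule.mem_bot]
    obtain ⟨d⟩ := Local.nonempty_residue_equiv P
    let F : (R ⧸ P) →ₗ[R] M := Submodule.liftQ P (LinearMap.toSpanSingleton R M x)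
      fun a ha ↦ (hmem a).1 ha
    have h0 := LinearMap.congr_fun (Subsingleton.elim
      (LocalizedModule.map P.primeCompl F ∘ₗ d.symm.toLinearMap) 0)
      (d (LocalizedModule.mk (Submodule.Quotient.mk 1) 1))
    rw [LinearMap.comp_apply, LinearEquiv.coe_coe, LinearEquiv.symm_apply_apply,
      LocalizedModule.map_mk, LinearMap.zero_apply, Local.mk_eq_zero] at h0
    obtain ⟨⟨u, hu⟩, hu0⟩ := h0
    refine hu ((hmem u).2 ?_)
    have hF : F (Submodule.Quotient.mk 1) = x := one_smul R x
    rwa [hF] at hu0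

end Crit

section Graded

variable {R : Type u} [CommRing R] [IsNoetherianRing R]

/-- Higher Bass numbers of a *injective module at graded primes vanish. -/
theorem bassNum_succ_eq_zero {ι : Type} [AddCommGroup ι] [DecidableEq ι] [Module.Free ℤ ι]
    [Module.Finite ℤ ι] {𝒜 : ι → AddSubgroup R} [GradedRing 𝒜] {M : Type u} [AddCommGroup M]
    [Module R M] (ℳ : ι → AddSubgroup M) [DirectSum.Decomposition ℳ] [SetLike.GradedSMul 𝒜 ℳ]
    (hM : GrLC.IsStarInj 𝒜 ℳ) (q : HomogeneousIdeal 𝒜) [q.toIdeal.IsPrime] (i : ℕ) :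
    GrLC.bassNum q.toIdeal M (i + 1) = 0 := by
  rw [bassNum_eq_zero_iff]
  refine Local.ext_subsingleton_localized q.toIdeal _ _ ?_
  letI := Graded.HullPrime.quotDecomp q
  haveI := Graded.HullPrime.quotGSMul q
  exact Graded.ExtStarInj.ext_subsingleton (Graded.StarInj.toMod 𝒜 ℳ)
    (Graded.StarInj.isStarInj_toMod hM) i (GrLC.GMod.of 𝒜 (R ⧸ q.toIdeal) (GrLC.quotGr 𝒜 q))
    (inferInstanceAs (Module.Finite R (R ⧸ q.toIdeal)))

variable {𝒜 : ℤ → AddSubgroup R} [GradedRing 𝒜]

/-- A prime that is not graded has height one over its core. -/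
theorem height_map_eq_one {p : Ideal R} [hp : p.IsPrime] (hph : ¬ p.IsHomogeneous 𝒜) :
    (p.map (Ideal.Quotient.mk (Ideal.homogeneousCore 𝒜 p).toIdeal)).height = 1 := by
  have hle : (Ideal.homogeneousCore 𝒜 p).toIdeal ≤ p := Ideal.toIdeal_homogeneousCore_le 𝒜 p
  have hne : (Ideal.homogeneousCore 𝒜 p).toIdeal ≠ p := fun h ↦
    hph (h ▸ (Ideal.homogeneousCore 𝒜 p).isHomogeneous)
  have hq := Graded.Ass.isPrime_core 𝒜 hp
  generalize hqdef : Ideal.homogeneousCore 𝒜 p = q at *
  have hP : (p.map (Ideal.Quotient.mk q.toIdeal)).IsPrime :=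
    Ideal.map_isPrime_of_surjective Ideal.Quotient.mk_surjective (by rwa [Ideal.mk_ker])
  refine le_antisymm ?_ ?_
  · by_contra hgt'
    have hgt : ((1 + 1 : ℕ) : ℕ∞) ≤ (p.map (Ideal.Quotient.mk q.toIdeal)).height := by
      rw [Nat.cast_add, Nat.cast_one]
      exact (ENat.add_one_le_iff (by simp)).2 (not_le.1 hgt')
    rw [PrimeSpectrum.height_eq_orderHeight ⟨_, hP⟩] at hgt
    obtain ⟨c, hc, hlen⟩ := Order.exists_series_of_le_height _ hgt
    have hlast : (c (Fin.last c.length)).asIdeal = p.map (Ideal.Quotient.mk q.toIdeal) :=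
      congrArg PrimeSpectrum.asIdeal hc
    let a : PrimeSpectrum (R ⧸ q.toIdeal) := c ⟨1, by omega⟩
    have h1 : c ⟨0, by omega⟩ < a := c.strictMono (by simp [Fin.lt_def])
    have h2 : a < c (Fin.last c.length) := c.strictMono (by simp [Fin.lt_def]; omega)
    refine Graded.Dim.not_lt_of_core hq q.isHomogeneous (q := a.asIdeal.comap (Ideal.Quotient.mk _))
      (Q := p) inferInstance ?_ ?_ ?_
    · refine lt_of_le_of_ne (fun r hr ↦ ?_) fun h ↦ ?_
      · rw [Ideal.mem_comap, Ideal.Quotient.eq_zero_iff_mem.2 hr]; exact zero_mem _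
      · have ha : a.asIdeal = ⊥ := by
          rw [← Ideal.map_comap_of_surjective _ Ideal.Quotient.mk_surjective a.asIdeal, ← h,
            Ideal.map_quotient_self]
        exact (bot_le.trans_lt (show (c ⟨0, by omega⟩).asIdeal < a.asIdeal from h1)).ne ha.symm
    · have h2' : a.asIdeal < p.map (Ideal.Quotient.mk q.toIdeal) := hlast ▸ h2
      refine lt_of_le_of_ne (fun r hr ↦ (Ideal.mem_quotient_iff_mem hle).1 (h2'.le hr)) fun h ↦ ?_
      exact h2'.ne (by rw [← h, Ideal.map_comap_of_surjective _ Ideal.Quotient.mk_surjective])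
    · intro i x hx hxp
      rw [← hqdef]
      exact Ideal.mem_homogeneousCore_of_homogeneous_of_mem ⟨i, hx⟩ hxp
  · refine Order.one_le_iff_pos.2 (pos_iff_ne_zero.2 fun h ↦ ?_)
    have hbot : (p.map (Ideal.Quotient.mk q.toIdeal)) ∈ (⊥ : Ideal (R ⧸ q.toIdeal)).minimalPrimes :=
      Ideal.height_eq_zero_iff.1 h
    have : IsDomain (R ⧸ q.toIdeal) := (Ideal.Quotient.isDomain_iff_prime _).2 hq
    rw [Ideal.minimalPrimes_eq_subsingleton_self, Set.mem_singleton_iff,
      Ideal.map_eq_bot_iff_le_ker, Ideal.mk_ker] at hbot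
    exact hne (le_antisymm hle hbot)

variable {M : Type u} [AddCommGroup M] [Module R M] (ℳ : ℤ → AddSubgroup M)
  [DirectSum.Decomposition ℳ] [SetLike.GradedSMul 𝒜 ℳ]

include ℳ in
/-- Bass numbers at a prime that is not graded. -/
theorem bassNum_of_not_hom {p : Ideal R} [p.IsPrime] (hp : ¬ p.IsHomogeneous 𝒜)
    [(Ideal.homogeneousCore 𝒜 p).toIdeal.IsPrime] : GrLC.bassNum p M 0 = 0 ∧
      ∀ i, GrLC.bassNum p M (i + 1) = GrLC.bassNum (Ideal.homogeneousCore 𝒜 p).toIdeal M i := by
  obtain ⟨h1, h2⟩ := Core.bassNum_eq ℳ p 1 (height_map_eq_one hp)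
  exact ⟨h1 0 one_pos, fun i ↦ h2 i⟩

/-- A *injective module has injective dimension at most one. -/
theorem hasInjectiveDimensionLT_two (hM : GrLC.IsStarInj 𝒜 ℳ) :
    HasInjectiveDimensionLT (ModuleCat.of R M) 2 := by
  refine H22.GlobalDim.hasInjectiveDimensionLT_of_cyclic 1 _ fun J ↦ ?_
  refine subsingleton_ext_of_local M 2 (fun P _ ↦ bassNum_eq_zero_iff.1 ?_) J
  by_cases hP : P.IsHomogeneous 𝒜
  · exact bassNum_succ_eq_zero ℳ hM ⟨P, hP⟩ 1
  · have := Graded.Ass.isPrime_core 𝒜 (‹P.IsPrime›)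
    rw [(bassNum_of_not_hom ℳ hP).2 1]
    exact bassNum_succ_eq_zero ℳ hM _ 0

/-- When a *injective module is not injective. -/
theorem not_injective_iff (hM : GrLC.IsStarInj 𝒜 ℳ) : ¬ Module.Injective R M ↔
    ∃ p : Ideal R, p.IsPrime ∧ ¬ Ideal.IsHomogeneous 𝒜 p ∧
      (Ideal.homogeneousCore 𝒜 p).toIdeal ∈ associatedPrimes R M := by
  constructor
  · intro h
    rw [injective_iff] at h
    push Not at h
    obtain ⟨p, hp, h⟩ := h
    refine ⟨p, hp, fun hph ↦ h (bassNum_succ_eq_zero ℳ hM ⟨p, hph⟩ 0), ?_⟩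
    have := Graded.Ass.isPrime_core 𝒜 hp
    rw [← bassNum_zero_ne_zero_iff]
    intro h0
    exact h (((bassNum_of_not_hom ℳ fun hph ↦ h (bassNum_succ_eq_zero ℳ hM ⟨p, hph⟩ 0)).2 0).trans h0)
  · rintro ⟨p, hp, hph, hass⟩ hinj
    have := Graded.Ass.isPrime_core 𝒜 hp
    exact bassNum_zero_ne_zero_iff.2 hass
      (((bassNum_of_not_hom ℳ hph).2 0).symm.trans (injective_iff.1 hinj p))

end Graded

end Groth.Agent.H19.Bass.InjCrit
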