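import Groth.Agent.H19.Bass.Homological
import Groth.Agent.Lib.Graded.HullPrime
import Groth.Agent.Lib.Graded.ExtStarInj

/-!
# Socles of localized graded modules
-/

set_option autoImplicit false

universe u

open CategoryTheory
open Groth.Agent.Lib.Graded.Basic

namespace Groth.Agent.H19.Bass.Local

theorem mk_eq_zero {A M : Type u} [CommRing A] [AddCommGroup M] [Module A M] (S : Submonoid A)
    (m : M) (s : S) : LocalizedModule.mk m s = 0 ↔ ∃ u : S, u • m = 0 := by
  rw [← LocalizedModule.zero_mk (M := M) s, LocalizedModule.mk_eq]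
  constructor
  · rintro ⟨u, hu⟩
    exact ⟨u * s, by rw [mul_smul, hu, smul_zero, smul_zero]⟩
  · rintro ⟨u, hu⟩
    exact ⟨u, by rw [smul_comm, hu]; simp⟩

variable {R : Type u} [CommRing R] (p : Ideal R) [p.IsPrime]

/-- The residue field is the localization of the domain quotient. -/
theorem nonempty_residue_equiv :
    Nonempty (LocalizedModule p.primeCompl (R ⧸ p) ≃ₗ[Localization.AtPrime p]
      IsLocalRing.ResidueField (Localization.AtPrime p)) := by
  let L := LinearMap.toSpanSingleton (Localization.AtPrime p) _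
    (LocalizedModule.mk (Ideal.Quotient.mk p 1) (1 : p.primeCompl))
  have hkill : ∀ a ∈ p, algebraMap R (Localization.AtPrime p) a ∈ LinearMap.ker L := fun a ha ↦ by
    rw [LinearMap.mem_ker, LinearMap.toSpanSingleton_apply, algebraMap_smul,
      LocalizedModule.smul'_mk, show a • Ideal.Quotient.mk p 1 = 0 from
        Ideal.Quotient.eq_zero_iff_mem.2 (p.mul_mem_right _ ha), LocalizedModule.zero_mk]
  have hsurj : Function.Surjective L := fun z ↦ by
    induction z using LocalizedModule.induction_on with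
    | h x s =>
      obtain ⟨r, rfl⟩ := Ideal.Quotient.mk_surjective x
      refine ⟨Localization.mk r s, ?_⟩
      rw [LinearMap.toSpanSingleton_apply, LocalizedModule.mk_smul_mk, mul_one,
        show r • Ideal.Quotient.mk p 1 = Ideal.Quotient.mk p r from
          congrArg (Ideal.Quotient.mk p) (mul_one r)]
  have hker : LinearMap.ker L = IsLocalRing.maximalIdeal (Localization.AtPrime p) := by
    refine ((IsLocalRing.maximalIdeal.isMaximal _).eq_of_le (fun h ↦ ?_) fun a ha ↦ ?_).symm
    · have h1 : L 1 = 0 := LinearMap.mem_ker.1 (h ▸ Submodule.mem_top)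
      rw [LinearMap.toSpanSingleton_apply, one_smul,
        mk_eq_zero] at h1
      obtain ⟨t, ht⟩ := h1
      exact t.2 (by simpa [Submonoid.smul_def, Algebra.smul_def, Ideal.Quotient.eq_zero_iff_mem]
        using ht)
    · rw [← Localization.AtPrime.map_eq_maximalIdeal] at ha
      exact Ideal.span_le.2 (by rintro _ ⟨a, ha, rfl⟩; exact hkill a ha) ha
  exact ⟨(L.quotKerEquivOfSurjective hsurj).symm.trans (Submodule.quotEquivOfEq _ _ hker)⟩

/-- Vanishing of `Ext` out of the domain quotient localizes. -/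
theorem ext_subsingleton_localized [IsNoetherianRing R] (N : Type u) [AddCommGroup N] [Module R N]
    (i : ℕ) (h : Subsingleton (Abelian.Ext.{u} (ModuleCat.of R (R ⧸ p)) (ModuleCat.of R N) i)) :
    Subsingleton (Abelian.Ext.{u}
      (ModuleCat.of (Localization.AtPrime p) (IsLocalRing.ResidueField (Localization.AtPrime p)))
      (ModuleCat.of (Localization.AtPrime p) (LocalizedModule p.primeCompl N)) i) := by
  obtain ⟨e⟩ := Lib.LCFin.ExtLoc.nonempty_equiv p.primeCompl N i (R ⧸ p)
  have hz : ∀ y : Abelian.Ext.{u}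
      (ModuleCat.of (Localization.AtPrime p) (LocalizedModule p.primeCompl (R ⧸ p)))
      (ModuleCat.of (Localization.AtPrime p) (LocalizedModule p.primeCompl N)) i, y = 0 := fun y ↦ by
    obtain ⟨w, rfl⟩ := e.surjective y
    induction w using LocalizedModule.induction_on with
    | h x s => rw [Subsingleton.elim x 0, LocalizedModule.zero_mk, map_zero]
  obtain ⟨d⟩ := nonempty_residue_equiv p
  refine subsingleton_of_forall_eq 0 fun x ↦ ?_
  rw [← Abelian.Ext.mk₀_id_comp x, ← d.toModuleIso.inv_hom_id, ← Abelian.Ext.mk₀_comp_mk₀,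
    Abelian.Ext.comp_assoc_of_second_deg_zero, hz ((Abelian.Ext.mk₀ _).comp x _),
    Abelian.Ext.comp_zero]

variable {p}

/-- An element of a localized module killed by the prime comes from one killed by the prime. -/
theorem exists_rep [IsNoetherianRing R] {X : Type u} [AddCommGroup X] [Module R X]
    (z : LocalizedModule p.primeCompl X) (hz : ∀ a ∈ p, a • z = 0) :
    ∃ (y : X) (t : p.primeCompl), (∀ a ∈ p, a • y = 0) ∧ z = LocalizedModule.mk y t := by
  classical
  induction z using LocalizedModule.induction_on with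
  | h y₀ s =>
    obtain ⟨T, hT⟩ := IsNoetherian.noetherian p
    have h : ∀ a ∈ p, ∃ u : p.primeCompl, u • a • y₀ = 0 := fun a ha ↦
      (mk_eq_zero _ _ _).1 ((LocalizedModule.smul'_mk a y₀ s).symm.trans (hz a ha))
    choose! u hu using h
    let U : p.primeCompl := ∏ a ∈ T, u a
    refine ⟨U • y₀, U * s, fun a ha ↦ ?_, (LocalizedModule.mk_cancel_common_left U s y₀).symm⟩
    rw [← hT] at ha
    induction ha using Submodule.span_induction with
    | mem a ha =>
      obtain ⟨v, hv⟩ := Finset.dvd_prod_of_mem u ha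
      rw [show U = v * u a from hv.trans (mul_comm _ _), mul_smul, smul_comm, smul_comm a (u a) y₀,
        hu a (hT ▸ Submodule.subset_span ha), smul_zero]
    | zero => rw [zero_smul]
    | add a b _ _ ha hb => rw [add_smul, ha, hb, add_zero]
    | smul c a _ ha => rw [smul_assoc, ha, smul_zero]

/-- Maps out of the residue field land in the part killed by the prime. -/
theorem smul_hom_eq_zero {V : Type u} [AddCommGroup V] [Module R V]
    [Module (Localization.AtPrime p) V] [IsScalarTower R (Localization.AtPrime p) V]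
    (φ : IsLocalRing.ResidueField (Localization.AtPrime p) →ₗ[Localization.AtPrime p] V)
    (c : IsLocalRing.ResidueField (Localization.AtPrime p)) {a : R} (ha : a ∈ p) : a • φ c = 0 := by
  rw [← algebraMap_smul (Localization.AtPrime p) a, ← map_smul, Algebra.smul_def,
    IsLocalRing.ResidueField.algebraMap_eq, IsLocalRing.residue_eq_zero_iff _ |>.2
      ((IsLocalization.AtPrime.to_map_mem_maximal_iff _ p a).2 ha), zero_mul, map_zero]

variable {ι : Type} [AddCommGroup ι] [DecidableEq ι] {𝒜 : ι → AddSubgroup R} [GradedRing 𝒜]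
  {X : Type u} [AddCommGroup X] [Module R X] {𝒳 : ι → AddSubgroup X} [DirectSum.Decomposition 𝒳]
  [SetLike.GradedSMul 𝒜 𝒳]

/-- A map killing an essential homogeneous submodule kills the socle of the localization. -/
theorem map_eq_zero_of_ess [IsNoetherianRing R] (hp : p.IsHomogeneous 𝒜) {Y : Type u}
    [AddCommGroup Y] [Module R Y] (f : X →ₗ[R] Y) (N : Submodule R X) (hker : N ≤ LinearMap.ker f)
    (hN : ∀ Q : Submodule R X, Q.IsHomogeneous 𝒳 → Q ≠ ⊥ → Q ⊓ N ≠ ⊥)
    (z : LocalizedModule p.primeCompl X) (hz : ∀ a ∈ p, a • z = 0) :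
    LocalizedModule.map p.primeCompl f z = 0 := by
  classical
  obtain ⟨y, t, hy, rfl⟩ := exists_rep z hz
  have hcomp : ∀ g, ∀ a ∈ p, a • proj 𝒳 g y = 0 := fun g a ha ↦ by
    rw [← sum_proj 𝒜 a, Finset.sum_smul]
    refine Finset.sum_eq_zero fun d _ ↦ ?_
    have h := proj_smul_of_mem 𝒜 𝒳 (proj_mem 𝒜 d a) (d + g) y
    rw [add_sub_cancel_left, hy (proj 𝒜 d a) (hp d ha), map_zero] at h
    exact h.symm
  rw [LocalizedModule.map_mk, ← sum_proj 𝒳 y, map_sum]
  suffices h : ∀ g, ∃ u : p.primeCompl, u • f (proj 𝒳 g y) = 0 by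
    choose u hu using h
    rw [mk_eq_zero]
    refine ⟨∏ g ∈ supp 𝒳 y, u g, ?_⟩
    rw [Finset.smul_sum]
    refine Finset.sum_eq_zero fun g hg ↦ ?_
    obtain ⟨v, hv⟩ := Finset.dvd_prod_of_mem u hg
    rw [hv, mul_comm, mul_smul, hu, smul_zero]
  intro g
  by_cases h0 : proj 𝒳 g y = 0
  · exact ⟨1, by rw [h0, map_zero, smul_zero]⟩
  have hQ : Submodule.span R {proj 𝒳 g y} ≠ ⊥ := by simpa using h0
  obtain ⟨x, ⟨hx, hxN⟩, hx0⟩ := (Submodule.ne_bot_iff _).1 (hN _ (isHomogeneous_span 𝒜 𝒳
    (by rintro _ rfl; exact ⟨g, proj_mem 𝒳 g y⟩)) hQ)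
  obtain ⟨r, rfl⟩ := Submodule.mem_span_singleton.1 hx
  exact ⟨⟨r, fun hr ↦ hx0 (hcomp g r hr)⟩,
    (map_smul f r _).symm.trans (LinearMap.mem_ker.1 (hker hxN))⟩

end Groth.Agent.H19.Bass.Local
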