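import Groth.Agent.H19.Bass.Count
import Groth.Prelude.Def_GrLC2

/-!
# Bass numbers and minimal *injective resolutions
-/

set_option autoImplicit false
set_option linter.unusedSectionVars false

universe u

open CategoryTheory
open Groth.Agent.Lib.Graded Groth.Agent.Lib.Graded.Basic Groth.Agent.Lib.Graded.StarInj

namespace Groth.Agent.H19.Bass.Main

/-- `Ext` is functorial for isomorphisms in the second variable. -/
theorem length_ext_congr {A : Type u} [CommRing A] (K : ModuleCat.{u} A) {V W : Type u}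
    [AddCommGroup V] [Module A V] [AddCommGroup W] [Module A W] (e : V ≃ₗ[A] W) (j : ℕ) :
    Module.length A (Abelian.Ext.{u} K (ModuleCat.of A V) j) =
      Module.length A (Abelian.Ext.{u} K (ModuleCat.of A W) j) :=
  LinearEquiv.length_eq
    { toFun := fun x ↦ x.comp (Abelian.Ext.mk₀ e.toModuleIso.hom) (add_zero j)
      invFun := fun x ↦ x.comp (Abelian.Ext.mk₀ e.toModuleIso.inv) (add_zero j)
      left_inv := fun x ↦ by
        simp only [Abelian.Ext.comp_assoc_of_third_deg_zero, Abelian.Ext.mk₀_comp_mk₀,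
          Iso.hom_inv_id, Abelian.Ext.comp_mk₀_id]
      right_inv := fun x ↦ by
        simp only [Abelian.Ext.comp_assoc_of_third_deg_zero, Abelian.Ext.mk₀_comp_mk₀,
          Iso.inv_hom_id, Abelian.Ext.comp_mk₀_id]
      map_add' := fun _ _ ↦ Abelian.Ext.add_comp ..
      map_smul' := fun _ _ ↦ Abelian.Ext.smul_comp .. }

variable {R : Type u} [CommRing R] [IsNoetherianRing R] {ι : Type} [AddCommGroup ι] [DecidableEq ι]
  [Module.Free ℤ ι] [Module.Finite ℤ ι] {𝒜 : ι → AddSubgroup R} [GradedRing 𝒜]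
  (p : HomogeneousIdeal 𝒜) [p.toIdeal.IsPrime]

/-- The Bass number in degree zero is computed on an essential extension. -/
theorem bassNum_zero_eq {M X : Type u} [AddCommGroup M] [Module R M] [AddCommGroup X] [Module R X]
    {𝒳 : ι → AddSubgroup X} [DirectSum.Decomposition 𝒳] [SetLike.GradedSMul 𝒜 𝒳]
    (e : M →ₗ[R] X) (hinj : Function.Injective e)
    (hess : ∀ Q : Submodule R X, Q.IsHomogeneous 𝒳 → Q ≠ ⊥ → Q ⊓ LinearMap.range e ≠ ⊥) :
    GrLC.bassNum p.toIdeal M 0 = Module.length (Localization.AtPrime p.toIdeal)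
      (IsLocalRing.ResidueField (Localization.AtPrime p.toIdeal) →ₗ[Localization.AtPrime p.toIdeal]
        LocalizedModule p.toIdeal.primeCompl X) := by
  let S := p.toIdeal.primeCompl
  let k := IsLocalRing.ResidueField (Localization.AtPrime p.toIdeal)
  have he := LocalizedModule.map_injective S e hinj
  refine ((Lib.LCFin.ExtLoc.homEquiv k (LocalizedModule S M)).trans (LinearEquiv.ofBijective
    (LinearMap.llcomp (Localization.AtPrime p.toIdeal) k _ _ (LocalizedModule.map S e))
      ⟨fun a b h ↦ LinearMap.ext fun c ↦ he (LinearMap.congr_fun h c), fun φ ↦ ?_⟩)).length_eq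
  have hex := LocalizedModule.map_exact S e (LinearMap.range e).mkQ (LinearMap.exact_map_mkQ_range e)
  have h0 : ∀ c, φ c ∈ LinearMap.range (LocalizedModule.map S e) := fun c ↦ (hex (φ c)).1
    (Local.map_eq_zero_of_ess p.isHomogeneous _ (LinearMap.range e) (by rw [Submodule.ker_mkQ]) hess
      _ fun a ha ↦ Local.smul_hom_eq_zero φ c ha)
  refine ⟨(LinearEquiv.ofInjective _ he).symm.toLinearMap.comp (φ.codRestrict _ h0),
    LinearMap.ext fun c ↦ ?_⟩
  exact congrArg Subtype.val ((LinearEquiv.ofInjective _ he).apply_symm_apply ⟨φ c, h0 c⟩)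

/-- Bass numbers are computed on a minimal *injective resolution. -/
theorem bassNum_eq {M : Type u} [AddCommGroup M] [Module R M] {ℳ : ι → AddSubgroup M}
    [DirectSum.Decomposition ℳ] [SetLike.GradedSMul 𝒜 ℳ] (E : GrLC.StarInjRes 𝒜 ℳ)
    (hmin0 : ∀ P : Submodule R (E.X 0).carrier, P.IsHomogeneous (E.X 0).gr → P ≠ ⊥ →
      P ⊓ LinearMap.range E.ε ≠ ⊥)
    (hmin : ∀ (n : ℕ) (P : Submodule R (E.X (n + 1)).carrier), P.IsHomogeneous (E.X (n + 1)).gr →
      P ≠ ⊥ → P ⊓ LinearMap.range (E.d n) ≠ ⊥) (j : ℕ) :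
    GrLC.bassNum p.toIdeal M j = Module.length (Localization.AtPrime p.toIdeal)
      (IsLocalRing.ResidueField (Localization.AtPrime p.toIdeal) →ₗ[Localization.AtPrime p.toIdeal]
        LocalizedModule p.toIdeal.primeCompl (E.X j).carrier) := by
  let S := p.toIdeal.primeCompl
  let k := IsLocalRing.ResidueField (Localization.AtPrime p.toIdeal)
  let d' : ∀ n, (E.X n).carrier →ₗ[R] LinearMap.ker (E.d (n + 1)) := fun n ↦
    (E.d n).codRestrict _ fun x ↦ (E.exact_succ n).ge ⟨x, rfl⟩
  have hd' : ∀ n, Function.Surjective (d' n) := fun n y ↦ by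
    obtain ⟨x, hx⟩ := (E.exact_succ n).le y.2
    exact ⟨x, Subtype.ext hx⟩
  have hker : ∀ n, LinearMap.ker (E.d n) = LinearMap.ker (d' n) := fun n ↦
    (LinearMap.ker_codRestrict _ _ _).symm
  have hess : ∀ n, ∀ Q : Submodule R (E.X n).carrier, Q.IsHomogeneous (E.X n).gr → Q ≠ ⊥ →
      Q ⊓ LinearMap.ker (E.d n) ≠ ⊥ := fun n ↦ by
    cases n with
    | zero => rw [E.exact_zero]; exact hmin0
    | succ n => rw [E.exact_succ n]; exact hmin n
  have hExt : ∀ n i, Subsingleton (Abelian.Ext.{u} (ModuleCat.of (Localization.AtPrime p.toIdeal) k)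
      (ModuleCat.of (Localization.AtPrime p.toIdeal) (LocalizedModule S (E.X n).carrier)) (i + 1)) := by
    intro n i
    refine Local.ext_subsingleton_localized p.toIdeal _ _ ?_
    letI := HullPrime.quotDecomp p
    haveI := HullPrime.quotGSMul p
    exact ExtStarInj.ext_subsingleton (E.X n) (E.starInj n) i
      (GrLC.GMod.of 𝒜 (R ⧸ p.toIdeal) (GrLC.quotGr 𝒜 p))
      (inferInstanceAs (Module.Finite R (R ⧸ p.toIdeal)))
  obtain ⟨eq⟩ := Homological.nonempty_equiv (A := Localization.AtPrime p.toIdeal) (k := k)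
    (C := fun n ↦ LocalizedModule S (LinearMap.ker (E.d n)))
    (X := fun n ↦ LocalizedModule S (E.X n).carrier)
    (fun n ↦ LocalizedModule.map S (LinearMap.ker (E.d n)).subtype)
    (fun n ↦ LocalizedModule.map S (d' n))
    (fun n ↦ LocalizedModule.map_injective S _ (Submodule.injective_subtype _))
    (fun n ↦ LocalizedModule.map_surjective S _ (hd' n))
    (fun n ↦ LocalizedModule.map_exact S _ _ (by
      rw [LinearMap.exact_iff, ← hker n, Submodule.range_subtype]))
    hExt (fun n φ ↦ LinearMap.ext fun c ↦ Local.map_eq_zero_of_ess p.isHomogeneous (d' n) _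
      (hker n).le (hess n) _ fun a ha ↦ Local.smul_hom_eq_zero φ c ha) j 0
  have e0 : M ≃ₗ[R] LinearMap.ker (E.d 0) :=
    (LinearEquiv.ofInjective E.ε E.ε_injective).trans (LinearEquiv.ofEq _ _ E.exact_zero.symm)
  have eM : LocalizedModule S M ≃ₗ[Localization.AtPrime p.toIdeal]
      LocalizedModule S (LinearMap.ker (E.d 0)) :=
    LinearEquiv.ofBijective (LocalizedModule.map S e0.toLinearMap)
      ⟨LocalizedModule.map_injective S _ e0.injective, LocalizedModule.map_surjective S _ e0.surjective⟩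
  refine (length_ext_congr _ eM j).trans (eq.length_eq.trans ?_)
  rw [Nat.zero_add]

end Groth.Agent.H19.Bass.Main
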